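import Mathlib
import Cfsg.Agent.H11.Act

/-!
Glauberman's "isomorphic subgroups" chains: `u_i = g^{-i} x g^i`, with `⟨u_0, …, u_{m-1}⟩` of order
`p^m` for `m ≤ t` (S4359, S4385, S3385). Owner: helper20.
-/

set_option autoImplicit false

namespace Cfsg.Agent.H20.GIso

open Subgroup

variable {G : Type*} [Group G]

def u (g x : G) (i : ℕ) : G := (g ^ i)⁻¹ * x * g ^ i

def Sg (g x : G) (a b : ℕ) : Subgroup G := closure {y | ∃ i, a ≤ i ∧ i < b ∧ y = u g x i}

theorem u_add (g x : G) (i k : ℕ) : u g x (i + k) = (g ^ k)⁻¹ * u g x i * g ^ k := by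
  unfold u
  rw [pow_add, mul_inv_rev]
  group

theorem mem_Sg (g x : G) {a b i : ℕ} (h1 : a ≤ i) (h2 : i < b) : u g x i ∈ Sg g x a b :=
  subset_closure ⟨i, h1, h2, rfl⟩

theorem Sg_mono (g x : G) {a b a' b' : ℕ} (h1 : a' ≤ a) (h2 : b ≤ b') : Sg g x a b ≤ Sg g x a' b' := by
  apply Subgroup.closure_mono
  rintro y ⟨i, hi, hi', rfl⟩
  exact ⟨i, by omega, by omega, rfl⟩

theorem Sg_bot (g x : G) {a b : ℕ} (h : b ≤ a) : Sg g x a b = ⊥ := by
  rw [Sg, closure_eq_bot_iff]
  rintro y ⟨i, hi, hi', rfl⟩
  omega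

theorem Sg_sup (g x : G) {a b c : ℕ} (h1 : a ≤ b) (h2 : b ≤ c) : Sg g x a b ⊔ Sg g x b c = Sg g x a c := by
  apply le_antisymm
  · exact sup_le (Sg_mono g x le_rfl h2) (Sg_mono g x h1 le_rfl)
  · conv_lhs => rw [Sg]
    rw [closure_le]
    rintro y ⟨i, hi, hi', rfl⟩
    rcases Nat.lt_or_ge i b with h | h
    · exact (le_sup_left : Sg g x a b ≤ _) (mem_Sg g x hi h)
    · exact (le_sup_right : Sg g x b c ≤ _) (mem_Sg g x h hi')

theorem Sg_single (g x : G) (a : ℕ) : Sg g x a (a + 1) = zpowers (u g x a) := by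
  rw [Sg, zpowers_eq_closure]
  congr 1
  ext y
  simp only [Set.mem_setOf_eq, Set.mem_singleton_iff]
  constructor
  · rintro ⟨i, h1, h2, rfl⟩
    have : i = a := by omega
    rw [this]
  · rintro rfl
    exact ⟨a, le_rfl, by omega, rfl⟩

theorem Sg_conj (g x : G) (a b k : ℕ) :
    (Sg g x a b).map (MulAut.conj (g ^ k)⁻¹).toMonoidHom = Sg g x (a + k) (b + k) := by
  rw [Sg, MonoidHom.map_closure, Sg]
  congr 1
  ext y
  constructor
  · rintro ⟨_, ⟨i, h1, h2, rfl⟩, rfl⟩
    refine ⟨i + k, by omega, by omega, ?_⟩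
    rw [u_add]
    change (g ^ k)⁻¹ * u g x i * ((g ^ k)⁻¹)⁻¹ = _
    rw [inv_inv]
  · rintro ⟨i, h1, h2, rfl⟩
    refine ⟨u g x (i - k), ⟨i - k, by omega, by omega, rfl⟩, ?_⟩
    change (g ^ k)⁻¹ * u g x (i - k) * ((g ^ k)⁻¹)⁻¹ = _
    rw [inv_inv, ← u_add, Nat.sub_add_cancel (by omega)]

/-- the chain condition -/
structure GS (g x : G) (p t : ℕ) : Prop where
  card : ∀ m ≤ t, Nat.card (Sg g x 0 m) = p ^ m

variable [Finite G] {p : ℕ} [hp : Fact p.Prime]

/-- index `p` subgroups of `p`-groups are normalised -/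
theorem le_normalizer_of_card {A E : Subgroup G} (hAE : A ≤ E) {n : ℕ} (hA : Nat.card A = p ^ n)
    (hE : Nat.card E = p ^ (n + 1)) : E ≤ normalizer (A : Set G) := by
  have hidx : (A.subgroupOf E).index = p := by
    have h1 := (A.subgroupOf E).card_mul_index
    rw [Nat.card_congr (subgroupOfEquivOfLe hAE).toEquiv, hA, hE, pow_succ] at h1
    exact Nat.eq_of_mul_eq_mul_left (pow_pos hp.out.pos n) h1
  have h2 : (A.subgroupOf E).Normal := by
    apply normal_of_index_eq_minFac_card
    rw [hidx, hE, hp.out.pow_minFac (by omega)]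
  exact (normal_subgroupOf_iff_le_normalizer hAE).1 h2

variable {g x : G} {t : ℕ}

omit hp in
theorem card_Sg (h : GS g x p t) {a b : ℕ} (hab : a ≤ b) (hbt : b - a ≤ t) :
    Nat.card (Sg g x a b) = p ^ (b - a) := by
  have h1 := Sg_conj g x 0 (b - a) a
  rw [zero_add, Nat.sub_add_cancel hab] at h1
  rw [← h1, ← h.card (b - a) hbt]
  exact Nat.card_congr (equivMapOfInjective _ _ (MulAut.conj (g ^ a)⁻¹).injective).symm.toEquiv

theorem inf_seg (h : GS g x p t) {a b : ℕ} (hab : a < b) (hbt : b + 1 - a ≤ t) :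
    Sg g x a b ⊓ Sg g x (a + 1) (b + 1) = Sg g x (a + 1) b := by
  have hA := card_Sg h hab.le (by omega)
  have hB := card_Sg h (a := a + 1) (b := b + 1) (by omega) (by omega)
  have hE := card_Sg h (a := a) (b := b + 1) (by omega) hbt
  have hC := card_Sg h (a := a + 1) (b := b) (by omega) (by omega)
  have hsup : Sg g x a b ⊔ Sg g x (a + 1) (b + 1) = Sg g x a (b + 1) := by
    apply le_antisymm
    · exact sup_le (Sg_mono g x le_rfl (by omega)) (Sg_mono g x (by omega) le_rfl)
    · rw [← Sg_sup g x (a := a) (b := a + 1) (c := b + 1) (by omega) (by omega)]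
      exact sup_le_sup (Sg_mono g x le_rfl (by omega)) le_rfl
  have hn : Sg g x a b ≤ normalizer ((Sg g x (a + 1) (b + 1) : Subgroup G) : Set G) := by
    refine (Sg_mono g x le_rfl (by omega : b ≤ b + 1)).trans
      (le_normalizer_of_card (p := p) (n := b - a) (Sg_mono g x (by omega) le_rfl) ?_ ?_)
    · rw [hB]; congr 1; omega
    · rw [hE]; congr 1; omega
  have h1 := Cfsg.Agent.H11.card_sup_mul_card_inf hn
  rw [hsup, hA, hB, hE] at h1
  symm
  apply Subgroup.eq_of_le_of_card_ge
  · exact le_inf (Sg_mono g x (by omega) le_rfl) (Sg_mono g x le_rfl (by omega))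
  · rw [hC]
    apply le_of_eq
    apply Nat.eq_of_mul_eq_mul_left (pow_pos hp.out.pos (b + 1 - a))
    rw [h1, ← pow_add, ← pow_add]
    congr 1
    omega

theorem comm_mem (h : GS g x p t) {i j : ℕ} (hij : i < j) (hjt : j - i < t) :
    (u g x i)⁻¹ * (u g x j)⁻¹ * u g x i * u g x j ∈ Sg g x (i + 1) j := by
  rw [← inf_seg h hij (by omega)]
  have hA := card_Sg h hij.le (by omega)
  have hB := card_Sg h (a := i + 1) (b := j + 1) (by omega) (by omega)
  have hE := card_Sg h (a := i) (b := j + 1) (by omega) (by omega)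
  have nA : Sg g x i (j + 1) ≤ normalizer ((Sg g x i j : Subgroup G) : Set G) := by
    refine le_normalizer_of_card (p := p) (n := j - i) (Sg_mono g x (by omega) (by omega)) ?_ ?_
    · rw [hA]
    · rw [hE]; congr 1; omega
  have nB : Sg g x i (j + 1) ≤ normalizer ((Sg g x (i + 1) (j + 1) : Subgroup G) : Set G) := by
    refine le_normalizer_of_card (p := p) (n := j - i) (Sg_mono g x (by omega) (by omega)) ?_ ?_
    · rw [hB]; congr 1; omega
    · rw [hE]; congr 1; omega
  have ui : u g x i ∈ Sg g x i j := mem_Sg g x le_rfl hij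
  have uj : u g x j ∈ Sg g x (i + 1) (j + 1) := mem_Sg g x (by omega) (by omega)
  refine Subgroup.mem_inf.2 ⟨?_, ?_⟩
  · have h1 := (mem_normalizer_iff.1 (inv_mem (nA (mem_Sg g x (by omega) (by omega : j < j + 1)))) (u g x i)).1 ui
    rw [inv_inv] at h1
    have h2 : (u g x i)⁻¹ * (u g x j)⁻¹ * u g x i * u g x j =
      (u g x i)⁻¹ * ((u g x j)⁻¹ * u g x i * u g x j) := by group
    rw [h2]
    exact mul_mem (inv_mem ui) h1
  · have h1 := (mem_normalizer_iff.1 (inv_mem (nB (mem_Sg g x le_rfl (by omega : i < j + 1)))) (u g x j)⁻¹).1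
      (inv_mem uj)
    rw [inv_inv] at h1
    exact mul_mem h1 uj

omit [Finite G] hp in
theorem commute_of (hC : ∀ k < t, Commute (u g x 0) (u g x k)) {i j : ℕ} (h1 : i < j + t) (h2 : j < i + t) :
    Commute (u g x i) (u g x j) := by
  have key : ∀ i k : ℕ, k < t → Commute (u g x i) (u g x (i + k)) := by
    intro i k hk
    have e1 := u_add g x 0 i
    rw [zero_add] at e1
    have e2 := u_add g x k i
    rw [add_comm] at e2
    rw [e1, e2]
    have h3 : Commute ((MulAut.conj (g ^ i)⁻¹) (u g x 0)) ((MulAut.conj (g ^ i)⁻¹) (u g x k)) :=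
      (hC k hk).map _
    rw [MulAut.conj_apply, MulAut.conj_apply, inv_inv] at h3
    exact h3
  rcases le_total i j with h | h
  · have := key i (j - i) (by omega)
    rwa [Nat.add_sub_cancel' h] at this
  · have := key j (i - j) (by omega)
    rw [Nat.add_sub_cancel' h] at this
    exact this.symm

omit [Finite G] hp in
theorem not_commute_of {s : ℕ} (hC : ¬ Commute (u g x 0) (u g x s)) (i : ℕ) :
    ¬ Commute (u g x i) (u g x (i + s)) := by
  intro h
  apply hC
  have e1 := u_add g x 0 i
  rw [zero_add] at e1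
  have e2 := u_add g x s i
  rw [add_comm] at e2
  rw [e1, e2] at h
  have h3 : Commute ((MulAut.conj (g ^ i)) ((g ^ i)⁻¹ * u g x 0 * g ^ i)) ((MulAut.conj (g ^ i)) ((g ^ i)⁻¹ * u g x s * g ^ i)) :=
    h.map _
  rw [MulAut.conj_apply, MulAut.conj_apply] at h3
  have h4 : ∀ y : G, g ^ i * ((g ^ i)⁻¹ * y * g ^ i) * (g ^ i)⁻¹ = y := fun y => by group
  rw [h4, h4] at h3
  exact h3

omit [Finite G] hp in
/-- commuting segments -/
theorem commute_seg {s : ℕ} (hC : ∀ k < s, Commute (u g x 0) (u g x k)) {a b c d : ℕ}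
    (h : ∀ i j, a ≤ i → i < b → c ≤ j → j < d → i < j + s ∧ j < i + s) {y z : G}
    (hy : y ∈ Sg g x a b) (hz : z ∈ Sg g x c d) : Commute y z := by
  have h1 : ∀ i, a ≤ i → i < b → Sg g x c d ≤ centralizer {u g x i} := by
    intro i hi hi'
    rw [Sg, closure_le]
    rintro w ⟨j, hj, hj', rfl⟩
    rw [SetLike.mem_coe, mem_centralizer_singleton_iff]
    exact (commute_of hC (h i j hi hi' hj hj').1 (h i j hi hi' hj hj').2).symm.eq
  have h2 : Sg g x a b ≤ centralizer {z} := by
    rw [Sg, closure_le]
    rintro w ⟨i, hi, hi', rfl⟩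
    rw [SetLike.mem_coe, mem_centralizer_singleton_iff]
    exact (mem_centralizer_singleton_iff.1 (h1 i hi hi' hz)).symm
  exact mem_centralizer_singleton_iff.1 (h2 hy)

theorem lemA (h : GS g x p t) {s : ℕ} (hs0 : 1 ≤ s) (hst : s < t) (hC : ∀ k < s, Commute (u g x 0) (u g x k))
    (hnC : ¬ Commute (u g x 0) (u g x s)) :
    (u g x 0)⁻¹ * (u g x s)⁻¹ * u g x 0 * u g x s ∈ Sg g x (t - s) s := by
  set y := (u g x 0)⁻¹ * (u g x s)⁻¹ * u g x 0 * u g x s with hy
  have hy1 : y ≠ 1 := by
    intro h1
    apply hnC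
    change u g x 0 * u g x s = u g x s * u g x 0
    calc u g x 0 * u g x s = u g x s * u g x 0 * ((u g x 0)⁻¹ * (u g x s)⁻¹ * u g x 0 * u g x s) := by group
      _ = _ := by rw [← hy, h1, mul_one]
  have key : ∀ i, 1 ≤ i → i ≤ t - s → y ∈ Sg g x i s := by
    intro i hi
    induction i, hi using Nat.le_induction with
    | base =>
      intro _
      have := comm_mem h (i := 0) (j := s) (by omega) (by omega)
      rwa [zero_add] at this
    | succ i hi ih =>
      intro hit
      have hyi := ih (by omega)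
      have his : i < s := by
        by_contra hcon
        rw [Sg_bot g x (by omega), mem_bot] at hyi
        exact hy1 hyi
      have hn : Sg g x i (i + 1) ≤ normalizer ((Sg g x (i + 1) s : Subgroup G) : Set G) := by
        intro a ha
        have hc : ∀ b ∈ Sg g x (i + 1) s, a * b * a⁻¹ = b := by
          intro b hb
          have := commute_seg hC (a := i) (b := i + 1) (c := i + 1) (d := s) (fun k l h1 h2 h3 h4 => by omega) ha hb
          rw [this.eq]; group
        rw [mem_normalizer_iff]
        intro b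
        constructor
        · intro hb
          rw [hc b hb]; exact hb
        · intro hb
          have h1 := hc _ hb
          have h2 : a * b * a⁻¹ = b := by
            have h3 : a * (a * b * a⁻¹) * a⁻¹ = a * b * a⁻¹ := h1
            have h4 : a * b * a⁻¹ = b := by
              have := congrArg (fun w => a⁻¹ * w * a) h3
              simpa [mul_assoc] using this
            exact h4
          rw [← h2]; exact hb
      rw [← Sg_sup g x (by omega : i ≤ i + 1) (by omega : i + 1 ≤ s)] at hyi
      obtain ⟨a, ha, b, hb, hab⟩ := (Cfsg.Agent.H11.mem_sup_of_le_normalizer hn).1 hyi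
      by_cases ha1 : a = 1
      · rw [← hab, ha1, one_mul]; exact hb
      · exfalso
        have hcardi : Nat.card (Sg g x i (i + 1)) = p := by
          rw [card_Sg h (by omega) (by omega), Nat.add_sub_cancel_left, pow_one]
        have hza : zpowers a = Sg g x i (i + 1) := by
          apply Subgroup.eq_of_le_of_card_ge
          · rw [zpowers_le]; exact ha
          · rw [hcardi, Nat.card_zpowers]
            have h1 : orderOf a ∣ p := by
              rw [← hcardi]
              have := orderOf_dvd_natCard (⟨a, ha⟩ : Sg g x i (i + 1))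
              rwa [← Subgroup.orderOf_coe] at this
            rcases (Nat.dvd_prime hp.out).1 h1 with h2 | h2
            · exact absurd (orderOf_eq_one_iff.1 h2) ha1
            · rw [h2]
        set w := u g x (i + s) with hw
        have hbw : Commute b w := commute_seg hC (a := i + 1) (b := s) (c := i + s) (d := i + s + 1)
          (fun k l h1 h2 h3 h4 => by omega) hb (mem_Sg g x le_rfl (by omega))
        -- `y` commutes with `w`
        have hyw : Commute y w := by
          set c := (u g x 0)⁻¹ * w⁻¹ * u g x 0 * w with hc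
          have hcm : c ∈ Sg g x 1 (i + s) := by
            have := comm_mem h (i := 0) (j := i + s) (by omega) (by omega)
            rwa [zero_add] at this
          have hcs : Commute (u g x s) c := commute_seg hC (a := s) (b := s + 1) (c := 1) (d := i + s)
            (fun k l h1 h2 h3 h4 => by omega) (mem_Sg g x le_rfl (by omega)) hcm
          have hyc : Commute y c := commute_seg hC (a := i) (b := s) (c := 1) (d := i + s)
            (fun k l h1 h2 h3 h4 => by omega) (ih (by omega)) hcm
          have hsw : Commute (u g x s) w := commute_of hC (by omega) (by omega)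
          have e0 : w⁻¹ * u g x 0 * w = u g x 0 * c := by rw [hc]; group
          have e1 : w⁻¹ * u g x s * w = u g x s := by rw [mul_assoc, hsw.eq]; group
          have e2 : w⁻¹ * y * w = y := by
            calc w⁻¹ * y * w = (w⁻¹ * u g x 0 * w)⁻¹ * (w⁻¹ * u g x s * w)⁻¹ * (w⁻¹ * u g x 0 * w) *
                (w⁻¹ * u g x s * w) := by rw [hy]; group
              _ = (u g x 0 * c)⁻¹ * (u g x s)⁻¹ * (u g x 0 * c) * u g x s := by rw [e0, e1]
              _ = c⁻¹ * (u g x 0)⁻¹ * (u g x s)⁻¹ * u g x 0 * (c * u g x s) := by group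
              _ = c⁻¹ * ((u g x 0)⁻¹ * (u g x s)⁻¹ * u g x 0 * u g x s * c) := by rw [← hcs.eq]; group
              _ = y := by rw [← hy, hyc.eq]; group
          change y * w = w * y
          calc y * w = w * (w⁻¹ * y * w) := by group
            _ = w * y := by rw [e2]
        have haw : Commute a w := by
          have : a = y * b⁻¹ := by rw [← hab]; group
          rw [this]
          exact hyw.mul_left hbw.inv_left
        have hui : u g x i ∈ zpowers a := by rw [hza]; exact mem_Sg g x le_rfl (by omega)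
        obtain ⟨n, hn⟩ := mem_zpowers_iff.1 hui
        apply not_commute_of hnC i
        rw [← hn]
        exact haw.zpow_left n
  exact key (t - s) (by omega) le_rfl

end Cfsg.Agent.H20.GIso
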