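import Mathlib
import Cfsg.Agent.H20.GIsoA

/-!
Isomorphic subgroup chains: reversal, the inequality `2 t ≤ 3 s`, and existence (S4359). Owner: helper20.
-/

set_option autoImplicit false

namespace Cfsg.Agent.H20.GIso

open Subgroup

variable {G : Type*} [Group G]

theorem u_rev (g x : G) {t k : ℕ} (hk : k < t) : u g⁻¹ (u g x (t - 1)) k = u g x (t - 1 - k) := by
  have h1 := u_add g x (t - 1 - k) k
  rw [Nat.sub_add_cancel (by omega)] at h1
  rw [h1]
  unfold u
  rw [inv_pow, inv_inv]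
  group

theorem Sg_rev (g x : G) {t a b : ℕ} (hb : b ≤ t) :
    Sg g⁻¹ (u g x (t - 1)) a b = Sg g x (t - b) (t - a) := by
  unfold Sg
  congr 1
  ext y
  constructor
  · rintro ⟨i, h1, h2, rfl⟩
    exact ⟨t - 1 - i, by omega, by omega, u_rev g x (by omega)⟩
  · rintro ⟨i, h1, h2, rfl⟩
    refine ⟨t - 1 - i, by omega, by omega, ?_⟩
    rw [u_rev g x (by omega)]
    congr 1
    omega

variable [Finite G] {p : ℕ} [hp : Fact p.Prime] {g x : G} {t : ℕ}

omit hp in
theorem GS.rev (h : GS g x p t) : GS g⁻¹ (u g x (t - 1)) p t := by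
  refine ⟨fun m hm => ?_⟩
  rw [Sg_rev g x hm, Nat.sub_zero, card_Sg h (by omega) (by omega)]
  congr 1
  omega

theorem y_mem (h : GS g x p t) {s : ℕ} (hs0 : 1 ≤ s) (hst : s < t) (hC : ∀ k < s, Commute (u g x 0) (u g x k))
    (hnC : ¬ Commute (u g x 0) (u g x s)) :
    (u g x 0)⁻¹ * (u g x s)⁻¹ * u g x 0 * u g x s ∈ Sg g x (t - s) s ∧
    (u g x 0)⁻¹ * (u g x s)⁻¹ * u g x 0 * u g x s ∈ Sg g x 1 (2 * s + 1 - t) ∧ 2 * t ≤ 3 * s := by
  have hA := lemA h hs0 hst hC hnC
  set y := (u g x 0)⁻¹ * (u g x s)⁻¹ * u g x 0 * u g x s with hy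
  have hy1 : y ≠ 1 := by
    intro h1
    apply hnC
    change u g x 0 * u g x s = u g x s * u g x 0
    calc u g x 0 * u g x s = u g x s * u g x 0 * ((u g x 0)⁻¹ * (u g x s)⁻¹ * u g x 0 * u g x s) := by group
      _ = _ := by rw [← hy, h1, mul_one]
  have hts : t - s < s := by
    by_contra hcon
    rw [Sg_bot g x (by omega), mem_bot] at hA
    exact hy1 hA
  have hB : y ∈ Sg g x 1 (2 * s + 1 - t) := by
    have h0 : u g⁻¹ (u g x (t - 1)) 0 = u g x (t - 1) := u_rev g x (by omega)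
    have hs : u g⁻¹ (u g x (t - 1)) s = u g x (t - 1 - s) := u_rev g x hst
    have h1 := lemA h.rev hs0 hst (by
      intro k hk
      rw [h0, u_rev g x (by omega)]
      exact commute_of hC (by omega) (by omega)) (by
      rw [h0, hs]
      intro h2
      apply not_commute_of hnC (t - 1 - s)
      rw [Nat.sub_add_cancel (by omega)]
      exact h2.symm)
    rw [h0, hs, Sg_rev g x hst.le, Nat.sub_sub_self hst.le] at h1
    have e1 := u_add g x s (t - 1 - s)
    rw [Nat.add_sub_cancel' (by omega : s ≤ t - 1)] at e1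
    have e2 := u_add g x 0 (t - 1 - s)
    rw [zero_add] at e2
    rw [e1, e2] at h1
    have h3 := Sg_conj g x 1 (2 * s + 1 - t) (t - 1 - s)
    rw [show 1 + (t - 1 - s) = t - s by omega, show 2 * s + 1 - t + (t - 1 - s) = s by omega] at h3
    rw [← h3] at h1
    obtain ⟨z, hz, hzy⟩ := h1
    have h4 : z = y⁻¹ := by
      have h5 : (g ^ (t - 1 - s))⁻¹ * z * ((g ^ (t - 1 - s))⁻¹)⁻¹ = (g ^ (t - 1 - s))⁻¹ * y⁻¹ * ((g ^ (t - 1 - s))⁻¹)⁻¹ := by
        change _ = _ at hzy
        rw [MulEquiv.coe_toMonoidHom, MulAut.conj_apply] at hzy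
        rw [hzy, hy]
        group
      have h6 := mul_right_cancel h5
      exact mul_left_cancel h6
    have h5 : y = z⁻¹ := by rw [h4, inv_inv]
    rw [h5]; exact inv_mem hz
  refine ⟨hA, hB, ?_⟩
  by_contra hcon
  have c1 := card_Sg h (a := 1) (b := t - s) (by omega) (by omega)
  have c2 := card_Sg h (a := t - s) (b := s) (by omega) (by omega)
  have c3 := card_Sg h (a := 1) (b := s) (by omega) (by omega)
  have hn : Sg g x 1 (t - s) ≤ normalizer ((Sg g x (t - s) s : Subgroup G) : Set G) := by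
    intro a ha
    have hc : ∀ b ∈ Sg g x (t - s) s, a * b * a⁻¹ = b := by
      intro b hb
      have := commute_seg hC (a := 1) (b := t - s) (c := t - s) (d := s) (fun k l h1 h2 h3 h4 => by omega) ha hb
      rw [this.eq]; group
    have hc' : ∀ b ∈ Sg g x (t - s) s, a⁻¹ * b * a = b := by
      intro b hb
      have := commute_seg hC (a := 1) (b := t - s) (c := t - s) (d := s) (fun k l h1 h2 h3 h4 => by omega) ha hb
      rw [mul_assoc, ← this.eq]; group
    rw [mem_normalizer_iff]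
    intro b
    constructor
    · intro hb
      rw [hc b hb]; exact hb
    · intro hb
      have h1 := hc' _ hb
      have h2 : b = a * b * a⁻¹ := by
        calc b = a⁻¹ * (a * b * a⁻¹) * a := by group
          _ = a * b * a⁻¹ := h1
      rw [h2]; exact hb
  have h1 := Cfsg.Agent.H11.card_sup_mul_card_inf hn
  rw [Sg_sup g x (by omega) (by omega), c1, c2, c3, ← pow_add, show t - s - 1 + (s - (t - s)) = s - 1 by omega] at h1
  have h2 : Nat.card ↥(Sg g x 1 (t - s) ⊓ Sg g x (t - s) s) = 1 := by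
    apply Nat.eq_of_mul_eq_mul_left (pow_pos hp.out.pos (s - 1))
    rw [h1, mul_one]
  have h3 : Sg g x 1 (t - s) ⊓ Sg g x (t - s) s = ⊥ := eq_bot_of_card_eq _ h2
  apply hy1
  rw [← mem_bot, ← h3]
  exact mem_inf.2 ⟨Sg_mono g x le_rfl (by omega) hB, hA⟩

/-- existence of `s` -/
theorem exists_s (h : GS g x p t) (ht : 1 ≤ t) : ∃ s, 1 ≤ s ∧ s ≤ t ∧ (∀ k < s, Commute (u g x 0) (u g x k)) ∧
    (s < t → ¬ Commute (u g x 0) (u g x s)) := by
  classical
  by_cases hall : ∀ k < t, Commute (u g x 0) (u g x k)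
  · exact ⟨t, ht, le_rfl, hall, fun h => absurd h (lt_irrefl _)⟩
  · push Not at hall
    have hex : ∃ k, k < t ∧ ¬ Commute (u g x 0) (u g x k) := hall
    refine ⟨Nat.find hex, ?_, (Nat.find_spec hex).1.le, ?_, fun _ => (Nat.find_spec hex).2⟩
    · by_contra hcon
      have h0 : Nat.find hex = 0 := by omega
      have := (Nat.find_spec hex).2
      rw [h0] at this
      exact this rfl
    · intro k hk
      by_contra hcon
      exact Nat.find_min hex hk ⟨lt_trans hk (Nat.find_spec hex).1, hcon⟩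

/-- the centre bound -/
theorem center_bound (h : GS g x p t) (ht : 1 ≤ t) {s n : ℕ} (hs0 : 1 ≤ s) (hst : s ≤ t)
    (hC : ∀ k < s, Commute (u g x 0) (u g x k))
    (hZ : ∀ z ∈ Sg g x 0 t, (∀ w ∈ Sg g x 0 (t + n), z * w = w * z) → z = 1) : 2 * s ≤ t + n := by
  by_contra hcon
  have h1 : u g x (s - 1) = 1 := by
    apply hZ _ (mem_Sg g x (by omega) (by omega))
    intro w hw
    exact commute_seg hC (a := s - 1) (b := s) (c := 0) (d := t + n) (fun i j h1 h2 h3 h4 => by omega)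
      (mem_Sg g x le_rfl (by omega)) hw
  have h2 := card_Sg h (a := s - 1) (b := s) (by omega) (by omega)
  have h3 := Sg_single g x (s - 1)
  rw [show s - 1 + 1 = s by omega, h1, zpowers_one_eq_bot] at h3
  rw [h3, card_bot, show s - (s - 1) = 1 by omega, pow_one] at h2
  exact hp.out.one_lt.ne h2

theorem bound (h : GS g x p t) (ht : 1 ≤ t) {n : ℕ}
    (hZ : ∀ z ∈ Sg g x 0 t, (∀ w ∈ Sg g x 0 (t + n), z * w = w * z) → z = 1) :
    t ≤ 3 * n ∧ t ≠ 3 * n - 1 := by
  obtain ⟨s, hs0, hst, hC, hnC⟩ := exists_s h ht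
  have h1 := center_bound h ht hs0 hst hC hZ
  rcases Nat.lt_or_ge s t with h2 | h2
  · have h3 := (y_mem h hs0 h2 hC (hnC h2)).2.2
    omega
  · omega

end Cfsg.Agent.H20.GIso
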