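import Mathlib
import Cfsg.Agent.H20.GIsoB

/-!
Existence of isomorphic subgroup chains (S4359). Owner: helper20.
-/

set_option autoImplicit false

namespace Cfsg.Agent.H20.GIso

open Subgroup

variable {G : Type*} [Group G]

/-- `g⁻¹ X g` -/
def cg (g : G) (X : Subgroup G) : Subgroup G := X.map (MulAut.conj g⁻¹).toMonoidHom

theorem mem_cg {g : G} {X : Subgroup G} {y : G} : y ∈ cg g X ↔ g * y * g⁻¹ ∈ X := by
  constructor
  · rintro ⟨z, hz, rfl⟩
    have : g * ((MulAut.conj g⁻¹).toMonoidHom z) * g⁻¹ = z := by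
      change g * (g⁻¹ * z * g⁻¹⁻¹) * g⁻¹ = z
      group
    rw [this]; exact hz
  · intro h
    refine ⟨_, h, ?_⟩
    change g⁻¹ * (g * y * g⁻¹) * g⁻¹⁻¹ = y
    group

theorem cg_mono {g : G} {X Y : Subgroup G} (h : X ≤ Y) : cg g X ≤ cg g Y := map_mono h

theorem cg_cg_inv (g : G) (X : Subgroup G) : cg g (cg g⁻¹ X) = X := by
  ext y
  rw [mem_cg, mem_cg]
  have : g⁻¹ * (g * y * g⁻¹) * g⁻¹⁻¹ = y := by group
  rw [this]

theorem cg_inv_cg (g : G) (X : Subgroup G) : cg g⁻¹ (cg g X) = X := by
  have := cg_cg_inv g⁻¹ X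
  rwa [inv_inv] at this

theorem cg_card (g : G) (X : Subgroup G) : Nat.card (cg g X) = Nat.card X :=
  Nat.card_congr (equivMapOfInjective _ _ (MulAut.conj g⁻¹).injective).symm.toEquiv

theorem cg_inf (g : G) (X Y : Subgroup G) : cg g (X ⊓ Y) = cg g X ⊓ cg g Y :=
  map_inf _ _ _ (MulAut.conj g⁻¹).injective

theorem cg_sup (g : G) (X Y : Subgroup G) : cg g (X ⊔ Y) = cg g X ⊔ cg g Y := Subgroup.map_sup _ _ _

theorem cg_le_normalizer {g : G} {X N : Subgroup G} (h : X ≤ normalizer (N : Set G)) (hN : cg g N = N) :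
    cg g X ≤ normalizer (N : Set G) := by
  intro y hy
  rw [mem_cg] at hy
  have h1 := mem_normalizer_iff.1 (h hy)
  rw [mem_normalizer_iff]
  intro z
  have e1 : ∀ z, z ∈ N ↔ g * z * g⁻¹ ∈ N := by
    intro z
    rw [← mem_cg, hN]
  rw [e1 z, h1, e1 (y * z * y⁻¹)]
  have : g * y * g⁻¹ * (g * z * g⁻¹) * (g * y * g⁻¹)⁻¹ = g * (y * z * y⁻¹) * g⁻¹ := by group
  rw [this]

/-- the chain -/
def D (g : G) (P : Subgroup G) : ℕ → Subgroup G
  | 0 => P
  | k + 1 => P ⊓ cg g (D g P k)

theorem D_anti (g : G) (P : Subgroup G) (k : ℕ) : D g P (k + 1) ≤ D g P k := by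
  induction k with
  | zero => exact inf_le_left
  | succ k ih => exact inf_le_inf_left _ (cg_mono ih)

theorem D_le (g : G) (P : Subgroup G) (k : ℕ) : D g P k ≤ P := by
  cases k with
  | zero => exact le_rfl
  | succ k => exact inf_le_left

variable [Finite G] {p : ℕ} [hp : Fact p.Prime] {g : G} {P : Subgroup G}

theorem isPGroup_of (hn : ((P ⊓ cg g P).subgroupOf (cg g P)).Normal) (hidx : (P ⊓ cg g P).relIndex (cg g P) = p)
    (h1 : ∀ Q : Subgroup G, Q ≤ P → (Q.subgroupOf P).Normal → cg g Q = Q → Q = ⊥) : IsPGroup p P := by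
  -- elements of order prime to `p` of `P^g` lie in `P`
  have key : ∀ y ∈ cg g P, (orderOf y).Coprime p → y ∈ P := by
    intro y hy hcop
    have h2 : (⟨y, hy⟩ : cg g P) ^ p ∈ (P ⊓ cg g P).subgroupOf (cg g P) := by
      have := ((P ⊓ cg g P).subgroupOf (cg g P)).pow_index_mem (⟨y, hy⟩ : cg g P)
      rwa [show ((P ⊓ cg g P).subgroupOf (cg g P)).index = p from hidx] at this
    rw [mem_subgroupOf] at h2
    have h3 : y ^ p ∈ P := (Subgroup.mem_inf.1 h2).1
    obtain ⟨m, hm⟩ := exists_pow_eq_self_of_coprime hcop.symm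
    rw [← hm]
    exact pow_mem h3 m
  set S : Set G := {x | x ∈ P ∧ (orderOf x).Coprime p} with hS
  have hSg : ∀ x ∈ S, g⁻¹ * x * g ∈ S := by
    intro x hx
    have ho : orderOf (g⁻¹ * x * g) = orderOf x := by
      have := MulEquiv.orderOf_eq (MulAut.conj g⁻¹) x
      rwa [MulAut.conj_apply, inv_inv] at this
    refine ⟨key _ ?_ (by rw [ho]; exact hx.2), by rw [ho]; exact hx.2⟩
    rw [mem_cg]
    have : g * (g⁻¹ * x * g) * g⁻¹ = x := by group
    rw [this]; exact hx.1
  have hSP : closure S ≤ P := by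
    rw [closure_le]
    exact fun x hx => hx.1
  have hbot : closure S = ⊥ := by
    apply h1 _ hSP
    · refine ⟨fun n hn' a => ?_⟩
      rw [mem_subgroupOf] at hn' ⊢
      have h2 : closure S ≤ (closure S).comap (MulAut.conj (a : G)).toMonoidHom := by
        rw [closure_le]
        intro x hx
        rw [SetLike.mem_coe, mem_comap]
        apply Subgroup.subset_closure
        refine ⟨mul_mem (mul_mem a.2 hx.1) (inv_mem a.2), ?_⟩
        have := MulEquiv.orderOf_eq (MulAut.conj (a : G)) x
        change (orderOf ((MulAut.conj (a : G)) x)).Coprime p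
        rw [this]; exact hx.2
      exact h2 hn'
    · apply Subgroup.eq_of_le_of_card_ge
      · rintro _ ⟨x, hx, rfl⟩
        have h2 : closure S ≤ (closure S).comap (MulAut.conj g⁻¹).toMonoidHom := by
          rw [closure_le]
          intro x hx
          rw [SetLike.mem_coe, mem_comap]
          apply Subgroup.subset_closure
          have h3 := hSg x hx
          change g⁻¹ * x * g⁻¹⁻¹ ∈ S
          rwa [inv_inv]
        exact h2 hx
      · rw [cg_card]
  have htriv : ∀ x ∈ P, (orderOf x).Coprime p → x = 1 := by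
    intro x hx hc
    have : x ∈ closure S := subset_closure ⟨hx, hc⟩
    rw [hbot] at this
    exact mem_bot.1 this
  apply IsPGroup.of_card (n := (Nat.card P).primeFactorsList.length)
  apply Nat.eq_prime_pow_of_unique_prime_dvd Nat.card_pos.ne'
  intro r hr hrd
  haveI : Fact r.Prime := ⟨hr⟩
  by_contra hrp
  obtain ⟨x, hx⟩ := exists_prime_orderOf_dvd_card' (G := P) r hrd
  have h2 := htriv x x.2 (by
    rw [Subgroup.orderOf_coe, hx]
    exact (Nat.coprime_primes hr hp.out).2 hrp)
  rw [← Subgroup.orderOf_coe, h2, orderOf_one] at hx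
  exact hr.one_lt.ne hx

theorem exists_GS (hn : ((P ⊓ cg g P).subgroupOf (cg g P)).Normal) (hidx : (P ⊓ cg g P).relIndex (cg g P) = p)
    (h1 : ∀ Q : Subgroup G, Q ≤ P → (Q.subgroupOf P).Normal → cg g Q = Q → Q = ⊥) :
    ∃ x t, 1 ≤ t ∧ GS g x p t ∧ Sg g x 0 t = P := by
  classical
  have hPp := isPGroup_of hn hidx h1
  have hQP : P ⊓ cg g P ≤ cg g P := inf_le_right
  have hcQ : Nat.card P = p * Nat.card ↥(P ⊓ cg g P) := by
    have h2 := Cfsg.Agent.H11.card_mul_relIndex hQP
    rw [hidx, cg_card] at h2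
    rw [← h2, mul_comm]
  have hQn := (normal_subgroupOf_iff_le_normalizer hQP).1 hn
  have hstep : ∀ k, Nat.card (D g P k) = Nat.card (D g P (k + 1)) ∨
      Nat.card (D g P k) = p * Nat.card (D g P (k + 1)) := by
    intro k
    have e1 : D g P (k + 1) = cg g (D g P k) ⊓ (P ⊓ cg g P) := by
      change P ⊓ cg g (D g P k) = _
      rw [inf_comm, inf_comm P (cg g P), ← inf_assoc, inf_eq_left.2 (cg_mono (D_le g P k))]
    have h2 := Cfsg.Agent.H11.card_sup_mul_card_inf ((cg_mono (D_le g P k)).trans hQn)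
    rw [← e1, cg_card] at h2
    have h3 : Nat.card ↥(P ⊓ cg g P) ∣ Nat.card ↥(cg g (D g P k) ⊔ (P ⊓ cg g P)) :=
      card_dvd_of_le le_sup_right
    have h4 : Nat.card ↥(cg g (D g P k) ⊔ (P ⊓ cg g P)) ∣ p * Nat.card ↥(P ⊓ cg g P) := by
      rw [← hcQ, ← cg_card g P]
      exact card_dvd_of_le (sup_le (cg_mono (D_le g P k)) hQP)
    obtain ⟨c, hc⟩ := h3
    have hQpos : 0 < Nat.card ↥(P ⊓ cg g P) := Nat.card_pos
    have h5 : c ∣ p := by
      rw [hc, mul_comm p] at h4
      exact Nat.dvd_of_mul_dvd_mul_left hQpos h4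
    rw [hc] at h2
    have h6 : c * Nat.card (D g P (k + 1)) = Nat.card (D g P k) := by
      apply Nat.eq_of_mul_eq_mul_left hQpos
      rw [← mul_assoc, h2, mul_comm]
    rcases (Nat.dvd_prime hp.out).1 h5 with h | h
    · left; rw [← h6, h, one_mul]
    · right; rw [← h6, h]
  -- stabilisation
  have hex : ∃ k, D g P (k + 1) = D g P k := by
    by_contra hcon
    push Not at hcon
    have h2 : ∀ k, Nat.card (D g P k) + k ≤ Nat.card P := by
      intro k
      induction k with
      | zero => exact le_rfl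
      | succ k ih =>
        have h3 : Nat.card (D g P (k + 1)) < Nat.card (D g P k) := by
          apply lt_of_le_of_ne (card_le_of_le (D_anti g P k))
          intro h
          exact hcon k (Subgroup.eq_of_le_of_card_ge (D_anti g P k) h.ge)
        omega
    have h3 := h2 (Nat.card P)
    have h4 : 0 < Nat.card (D g P (Nat.card P)) := Nat.card_pos
    omega
  set t := Nat.find hex with ht
  have htspec : D g P (t + 1) = D g P t := Nat.find_spec hex
  have htmin : ∀ k < t, Nat.card (D g P k) = p * Nat.card (D g P (k + 1)) := by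
    intro k hk
    rcases hstep k with h | h
    · exfalso
      exact Nat.find_min hex hk (Subgroup.eq_of_le_of_card_ge (D_anti g P k) h.le)
    · exact h
  have hNg : cg g (D g P t) = D g P t := by
    symm
    apply Subgroup.eq_of_le_of_card_ge
    · conv_lhs => rw [← htspec]
      exact inf_le_right
    · rw [cg_card]
  -- `D k = D (k+1) ⊔ g D (k+1) g⁻¹` for `k + 1 < t`
  have hDsup : ∀ k, k + 1 < t → D g P k = D g P (k + 1) ⊔ cg g⁻¹ (D g P (k + 1)) := by
    intro k hk
    have hle : cg g⁻¹ (D g P (k + 1)) ≤ D g P k := by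
      change cg g⁻¹ (P ⊓ cg g (D g P k)) ≤ D g P k
      rw [cg_inf, cg_inv_cg]
      exact inf_le_right
    have hne : ¬ cg g⁻¹ (D g P (k + 1)) ≤ D g P (k + 1) := by
      intro h
      have h2 : cg g⁻¹ (D g P (k + 1)) = D g P (k + 1) :=
        Subgroup.eq_of_le_of_card_ge h (by rw [cg_card])
      have h3 : cg g (D g P (k + 1)) = D g P (k + 1) := by
        conv_lhs => rw [← h2]
        rw [cg_cg_inv]
      apply Nat.find_min hex hk
      change P ⊓ cg g (D g P (k + 1)) = _
      rw [h3]
      exact inf_eq_right.2 (D_le g P (k + 1))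
    have hc := htmin k (by omega)
    symm
    apply Subgroup.eq_of_le_of_card_ge (sup_le (D_anti g P k) hle)
    obtain ⟨c, hcc⟩ := card_dvd_of_le (le_sup_left : D g P (k + 1) ≤ D g P (k + 1) ⊔ cg g⁻¹ (D g P (k + 1)))
    have hd : Nat.card ↥(D g P (k + 1) ⊔ cg g⁻¹ (D g P (k + 1))) ∣ Nat.card (D g P k) :=
      card_dvd_of_le (sup_le (D_anti g P k) hle)
    have hpos : 0 < Nat.card (D g P (k + 1)) := Nat.card_pos
    rw [hcc, hc, mul_comm p] at hd
    have h5 : c ∣ p := Nat.dvd_of_mul_dvd_mul_left hpos hd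
    rcases (Nat.dvd_prime hp.out).1 h5 with h | h
    · exfalso
      apply hne
      have h6 : D g P (k + 1) = D g P (k + 1) ⊔ cg g⁻¹ (D g P (k + 1)) :=
        Subgroup.eq_of_le_of_card_ge le_sup_left (by rw [hcc, h, mul_one])
      have h7 : cg g⁻¹ (D g P (k + 1)) ≤ D g P (k + 1) ⊔ cg g⁻¹ (D g P (k + 1)) := le_sup_right
      rw [← h6] at h7
      exact h7
    · rw [hcc, hc, h, mul_comm]
  have hpow : ∀ k, ∃ n, Nat.card (D g P k) = p ^ n := by
    intro k
    exact IsPGroup.iff_card.1 (hPp.to_le (D_le g P k))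
  -- `D t` is normalised by `P`
  have hnorm : ∀ j, j ≤ t → D g P (t - j) ≤ normalizer ((D g P t : Subgroup G) : Set G) := by
    intro j
    induction j with
    | zero => intro _; exact le_normalizer
    | succ j ih =>
      intro hj
      rcases Nat.eq_zero_or_pos j with h0 | h0
      · subst h0
        obtain ⟨n, hn'⟩ := hpow t
        have h2 := htmin (t - 1) (by omega)
        rw [Nat.sub_add_cancel (by omega), hn'] at h2
        apply le_normalizer_of_card (p := p) (n := n) _ hn'
        · rw [zero_add, h2, pow_succ, mul_comm]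
        · have := D_anti g P (t - 1)
          rwa [Nat.sub_add_cancel (by omega)] at this
      · have h2 := ih (by omega)
        have h3 := hDsup (t - (j + 1)) (by omega)
        rw [show t - (j + 1) + 1 = t - j by omega] at h3
        rw [h3]
        apply sup_le h2
        apply cg_le_normalizer h2
        conv_lhs => rw [← hNg]
        rw [cg_inv_cg]
  have hNbot : D g P t = ⊥ := by
    apply h1 _ (D_le g P t) _ hNg
    apply (normal_subgroupOf_iff_le_normalizer (D_le g P t)).2
    have := hnorm t le_rfl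
    rwa [Nat.sub_self] at this
  have hcard : ∀ j, j ≤ t → Nat.card (D g P (t - j)) = p ^ j := by
    intro j
    induction j with
    | zero => intro _; rw [Nat.sub_zero, hNbot, card_bot, pow_zero]
    | succ j ih =>
      intro hj
      rw [htmin (t - (j + 1)) (by omega), show t - (j + 1) + 1 = t - j by omega, ih (by omega), pow_succ, mul_comm]
  have ht1 : 1 ≤ t := by
    by_contra hcon
    have h0 : t = 0 := by omega
    rw [h0] at hNbot
    change P = ⊥ at hNbot
    rw [hNbot, card_bot] at hcQ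
    have := hp.out.one_lt
    have h3 : 0 < Nat.card ↥((⊥ : Subgroup G) ⊓ cg g ⊥) := Nat.card_pos
    nlinarith
  -- the generator
  obtain ⟨d, hd⟩ : ∃ d : G, zpowers d = D g P (t - 1) := by
    have h2 : Nat.card (D g P (t - 1)) = p := by rw [hcard 1 ht1, pow_one]
    obtain ⟨d, hd⟩ := exists_prime_orderOf_dvd_card' (G := D g P (t - 1)) p (by rw [h2])
    refine ⟨d, ?_⟩
    apply Subgroup.eq_of_le_of_card_ge
    · rw [zpowers_le]; exact d.2
    · rw [h2, Nat.card_zpowers, Subgroup.orderOf_coe, hd]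
  set x := g ^ (t - 1) * d * (g ^ (t - 1))⁻¹ with hx
  have hux : u g x (t - 1) = d := by
    unfold u
    rw [hx]; group
  have hci : ∀ a b, cg g⁻¹ (Sg g x (a + 1) (b + 1)) = Sg g x a b := by
    intro a b
    have h2 := Sg_conj g x a b 1
    rw [pow_one] at h2
    rw [← h2]
    exact cg_inv_cg g _
  have hDS : ∀ m, 1 ≤ m → m ≤ t → D g P (t - m) = Sg g x (t - m) t := by
    intro m hm
    induction m, hm using Nat.le_induction with
    | base =>
      intro _
      have h2 := Sg_single g x (t - 1)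
      rw [Nat.sub_add_cancel ht1, hux, hd] at h2
      exact h2.symm
    | succ m hm ih =>
      intro hmt
      have h2 := ih (by omega)
      have h3 := hDsup (t - (m + 1)) (by omega)
      rw [show t - (m + 1) + 1 = t - m by omega, h2] at h3
      have h4 := hci (t - (m + 1)) (t - 1)
      rw [show t - (m + 1) + 1 = t - m by omega, Nat.sub_add_cancel ht1] at h4
      rw [h4] at h3
      rw [h3]
      apply le_antisymm
      · exact sup_le (Sg_mono g x (by omega) le_rfl) (Sg_mono g x le_rfl (by omega))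
      · rw [← Sg_sup g x (a := t - (m + 1)) (b := t - 1) (c := t) (by omega) (by omega)]
        exact sup_le le_sup_right (le_trans (Sg_mono g x (by omega) le_rfl) le_sup_left)
  refine ⟨x, t, ht1, ⟨fun m hm => ?_⟩, ?_⟩
  · rcases Nat.eq_zero_or_pos m with h0 | h0
    · rw [h0, Sg_bot g x le_rfl, card_bot, pow_zero]
    · have h2 := Sg_conj g x 0 m (t - m)
      rw [zero_add, Nat.add_sub_cancel' hm, ← hDS m h0 hm] at h2
      rw [← hcard m hm, ← h2]
      exact Nat.card_congr (equivMapOfInjective _ _ (MulAut.conj (g ^ (t - m))⁻¹).injective).toEquiv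
  · have h2 := hDS t ht1 le_rfl
    rw [Nat.sub_self] at h2
    exact h2.symm

end Cfsg.Agent.H20.GIso
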