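import Mathlib
import Cfsg.Agent.H20.GIsoC

/-!
Isomorphic subgroup chains for `p = 2`, `n = 2`: `t ≤ 4` (S3385, S4385, S3685). Owner: helper20.
-/

set_option autoImplicit false

namespace Cfsg.Agent.H20.GIso

open Subgroup

variable {G : Type*} [Group G] [Finite G] {g x : G} {t : ℕ}

theorem u_sq (h : GS g x 2 t) (ht : 1 ≤ t) (i : ℕ) : u g x i * u g x i = 1 := by
  have h1 := card_Sg h (a := i) (b := i + 1) (by omega) (by omega)
  rw [Sg_single, Nat.card_zpowers, Nat.add_sub_cancel_left, pow_one] at h1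
  rw [← pow_two, ← h1]
  exact pow_orderOf_eq_one _

theorem u_inv (h : GS g x 2 t) (ht : 1 ≤ t) (i : ℕ) : (u g x i)⁻¹ = u g x i :=
  inv_eq_of_mul_eq_one_left (u_sq h ht i)

theorem u_ne (h : GS g x 2 t) (ht : 1 ≤ t) (i : ℕ) : u g x i ≠ 1 := by
  intro h0
  have h1 := card_Sg h (a := i) (b := i + 1) (by omega) (by omega)
  rw [Sg_single, Nat.card_zpowers, Nat.add_sub_cancel_left, pow_one, h0, orderOf_one] at h1
  omega

/-- commuting segments are elementary abelian -/
theorem seg_sq (h : GS g x 2 t) (ht : 1 ≤ t) {s : ℕ} (hC : ∀ k < s, Commute (u g x 0) (u g x k)) {a b : ℕ}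
    (hab : b ≤ a + s) {y : G} (hy : y ∈ Sg g x a b) : y * y = 1 := by
  have key : ∀ z ∈ Sg g x a b, Commute y z := by
    intro z hz
    exact commute_seg hC (fun i j h1 h2 h3 h4 => by omega) hy hz
  have h1 : ∀ w ∈ Sg g x a b, w * w = 1 := by
    intro w hw
    induction hw using Subgroup.closure_induction with
    | mem z hz =>
      obtain ⟨i, -, -, rfl⟩ := hz
      exact u_sq h ht i
    | one => simp
    | mul z w hz hw ihz ihw =>
      have hc : Commute z w := commute_seg hC (fun i j h1 h2 h3 h4 => by omega) hz hw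
      calc z * w * (z * w) = z * (w * z) * w := by group
        _ = z * (z * w) * w := by rw [hc.eq]
        _ = (z * z) * (w * w) := by group
        _ = 1 := by rw [ihz, ihw, one_mul]
    | inv z hz ih =>
      rw [← mul_inv_rev, ih, inv_one]
  exact h1 y hy

/-- a single-element segment for `p = 2` -/
theorem mem_single (h : GS g x 2 t) (ht : 1 ≤ t) {i : ℕ} {y : G} (hy : y ∈ Sg g x i (i + 1)) :
    y = 1 ∨ y = u g x i := by
  rw [Sg_single] at hy
  obtain ⟨n, rfl⟩ := mem_zpowers_iff.1 hy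
  rcases Int.even_or_odd' n with ⟨k, rfl | rfl⟩
  · left
    rw [zpow_mul, zpow_two, u_sq h ht, one_zpow]
  · right
    rw [zpow_add, zpow_mul, zpow_two, u_sq h ht, one_zpow, one_mul, zpow_one]

/-- decomposition of a commuting segment -/
theorem seg_left (h : GS g x 2 t) (ht : 1 ≤ t) {s : ℕ} (hC : ∀ k < s, Commute (u g x 0) (u g x k)) {a b : ℕ}
    (hab : a < b) (hbs : b ≤ a + s) {y : G} (hy : y ∈ Sg g x a b) :
    ∃ v ∈ Sg g x (a + 1) b, y = v ∨ y = u g x a * v := by
  have hn : Sg g x a (a + 1) ≤ normalizer ((Sg g x (a + 1) b : Subgroup G) : Set G) := by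
    intro c hc
    have hcc : ∀ d ∈ Sg g x a b, c * d * c⁻¹ = d := by
      intro d hd
      have := commute_seg hC (a := a) (b := a + 1) (c := a) (d := b) (fun k l h1 h2 h3 h4 => by omega) hc hd
      rw [this.eq]; group
    rw [mem_normalizer_iff]
    intro d
    constructor
    · intro hd
      rw [hcc d (Sg_mono g x (by omega) le_rfl hd)]; exact hd
    · intro hd
      have h1 : c * d * c⁻¹ ∈ Sg g x a b := Sg_mono g x (by omega) le_rfl hd
      have h2 := hcc _ h1
      have h3 : d = c * d * c⁻¹ := by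
        have h4 := congrArg (fun w => c⁻¹ * w * c) h2
        have h5 : c⁻¹ * (c * (c * d * c⁻¹) * c⁻¹) * c = c * d * c⁻¹ := by group
        have h6 : c⁻¹ * (c * d * c⁻¹) * c = d := by group
        simp only [h5, h6] at h4
        exact h4.symm
      rw [h3]; exact hd
  rw [← Sg_sup g x (by omega : a ≤ a + 1) (by omega : a + 1 ≤ b)] at hy
  obtain ⟨c, hc, v, hv, rfl⟩ := (Cfsg.Agent.H11.mem_sup_of_le_normalizer hn).1 hy
  refine ⟨v, hv, ?_⟩
  rcases mem_single h ht hc with rfl | rfl
  · left; rw [one_mul]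
  · right; rfl

theorem seg_right (h : GS g x 2 t) (ht : 1 ≤ t) {s : ℕ} (hC : ∀ k < s, Commute (u g x 0) (u g x k)) {a b : ℕ}
    (hab : a ≤ b) (hbs : b + 1 ≤ a + s) {y : G} (hy : y ∈ Sg g x a (b + 1)) :
    ∃ v ∈ Sg g x a b, y = v ∨ y = v * u g x b := by
  have hn : Sg g x a b ≤ normalizer ((Sg g x b (b + 1) : Subgroup G) : Set G) := by
    intro c hc
    have hcc : ∀ d ∈ Sg g x b (b + 1), c * d * c⁻¹ = d := by
      intro d hd
      have := commute_seg hC (a := a) (b := b) (c := b) (d := b + 1) (fun k l h1 h2 h3 h4 => by omega) hc hd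
      rw [this.eq]; group
    have hcc' : ∀ d ∈ Sg g x b (b + 1), c⁻¹ * d * c = d := by
      intro d hd
      have := commute_seg hC (a := a) (b := b) (c := b) (d := b + 1) (fun k l h1 h2 h3 h4 => by omega) hc hd
      rw [mul_assoc, ← this.eq]; group
    rw [mem_normalizer_iff]
    intro d
    constructor
    · intro hd
      rw [hcc d hd]; exact hd
    · intro hd
      have h2 := hcc' _ hd
      have h3 : d = c * d * c⁻¹ := by
        calc d = c⁻¹ * (c * d * c⁻¹) * c := by group
          _ = c * d * c⁻¹ := h2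
      rw [h3]; exact hd
  rw [← Sg_sup g x hab (by omega : b ≤ b + 1)] at hy
  obtain ⟨v, hv, c, hc, rfl⟩ := (Cfsg.Agent.H11.mem_sup_of_le_normalizer hn).1 hy
  refine ⟨v, hv, ?_⟩
  rcases mem_single h ht hc with rfl | rfl
  · left; rw [mul_one]
  · right; rfl

/-- criterion for normalising a segment -/
theorem normalizes (h : GS g x 2 t) (ht : 1 ≤ t) {a b i : ℕ}
    (hj : ∀ j, a ≤ j → j < b → u g x i * u g x j * u g x i ∈ Sg g x a b) :
    u g x i ∈ normalizer ((Sg g x a b : Subgroup G) : Set G) := by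
  have h1 : Sg g x a b ≤ (Sg g x a b).comap (MulAut.conj (u g x i)).toMonoidHom := by
    conv_lhs => rw [Sg]
    rw [closure_le]
    rintro y ⟨j, h2, h3, rfl⟩
    rw [SetLike.mem_coe, mem_comap]
    change u g x i * u g x j * (u g x i)⁻¹ ∈ Sg g x a b
    rw [u_inv h ht]
    exact hj j h2 h3
  rw [mem_normalizer_iff]
  intro y
  constructor
  · intro hy; exact h1 hy
  · intro hy
    have h2 := h1 hy
    rw [mem_comap] at h2
    change u g x i * (u g x i * y * (u g x i)⁻¹) * (u g x i)⁻¹ ∈ Sg g x a b at h2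
    have h3 : u g x i * (u g x i * y * (u g x i)⁻¹) * (u g x i)⁻¹ = y := by
      calc u g x i * (u g x i * y * (u g x i)⁻¹) * (u g x i)⁻¹
          = (u g x i * u g x i) * y * (u g x i * u g x i)⁻¹ := by group
        _ = y := by rw [u_sq h ht]; simp
    rwa [h3] at h2

theorem t_le_four (h : GS g x 2 t) (ht : 1 ≤ t)
    (hE : ∀ E : Subgroup G, E ≤ Sg g x 0 t → Sg g x 0 (t + 2) ≤ normalizer (E : Set G) → E = ⊥) : t ≤ 4 := by
  have hZ : ∀ z ∈ Sg g x 0 t, (∀ w ∈ Sg g x 0 (t + 2), z * w = w * z) → z = 1 := by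
    intro z hz hzc
    have h1 := hE (zpowers z) (by rw [zpowers_le]; exact hz) (by
      intro w hw
      have hcw : ∀ v ∈ zpowers z, w * v * w⁻¹ = v := by
        intro v hv
        obtain ⟨n, rfl⟩ := mem_zpowers_iff.1 hv
        have : Commute w (z ^ n) := (show Commute w z from (hzc w hw).symm).zpow_right n
        rw [this.eq]; group
      have hcw' : ∀ v ∈ zpowers z, w⁻¹ * v * w = v := by
        intro v hv
        obtain ⟨n, rfl⟩ := mem_zpowers_iff.1 hv
        have : Commute w (z ^ n) := (show Commute w z from (hzc w hw).symm).zpow_right n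
        rw [mul_assoc, ← this.eq]; group
      rw [mem_normalizer_iff]
      intro v
      constructor
      · intro hv; rw [hcw v hv]; exact hv
      · intro hv
        have h2 := hcw' _ hv
        have h3 : v = w * v * w⁻¹ := by
          calc v = w⁻¹ * (w * v * w⁻¹) * w := by group
            _ = w * v * w⁻¹ := h2
        rw [h3]; exact hv)
    exact zpowers_eq_bot.1 h1
  by_contra hcon
  have hb := bound h ht hZ
  have h6 : t = 6 := by omega
  subst h6
  obtain ⟨s, hs0, hst, hC, hnC⟩ := exists_s h ht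
  have hcb := center_bound h ht hs0 hst hC hZ
  have hs4 : s ≤ 4 := by omega
  have hym := y_mem h hs0 (by omega) hC (hnC (by omega))
  have hs : s = 4 := by omega
  subst hs
  have hnC4 := hnC (by omega)
  have hy := hym.1
  have hy' := hym.2.1
  -- `[u₀, u₄] = u₂`
  have hmem : (u g x 0)⁻¹ * (u g x 4)⁻¹ * u g x 0 * u g x 4 ∈ Sg g x 2 3 := by
    rw [← inf_seg h (a := 1) (b := 3) (by omega) (by omega)]
    exact mem_inf.2 ⟨hy', hy⟩
  rw [u_inv h ht, u_inv h ht] at hmem
  have hne : u g x 0 * u g x 4 * u g x 0 * u g x 4 ≠ 1 := by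
    intro h1
    apply hnC4
    change u g x 0 * u g x 4 = u g x 4 * u g x 0
    have h2 : u g x 0 * u g x 4 * (u g x 0 * u g x 4) = 1 := by rw [← h1]; group
    have h3 := eq_inv_of_mul_eq_one_left h2
    rw [mul_inv_rev, u_inv h ht, u_inv h ht] at h3
    exact h3
  have h04 : u g x 0 * u g x 4 * u g x 0 * u g x 4 = u g x 2 := by
    rcases mem_single h ht hmem with h1 | h1
    · exact absurd h1 hne
    · exact h1
  have hi4 : ∀ i, u g x i * u g x (i + 4) * u g x i * u g x (i + 4) = u g x (i + 2) := by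
    intro i
    have e0 := u_add g x 0 i
    rw [zero_add] at e0
    have e4 := u_add g x 4 i
    rw [add_comm 4 i] at e4
    have e2 := u_add g x 2 i
    rw [add_comm 2 i] at e2
    rw [e0, e4, e2, ← h04]
    group
  have nc := fun i => not_commute_of hnC4 i
  -- `w = [u₀, u₅]`
  set w := u g x 0 * u g x 5 * u g x 0 * u g x 5 with hw
  have hwm : w ∈ Sg g x 1 5 := by
    have := comm_mem h (i := 0) (j := 5) (by omega) (by omega)
    rwa [u_inv h ht, u_inv h ht, zero_add] at this
  have hw5 : u g x 0 * u g x 5 * u g x 0 = w * u g x 5 := by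
    rw [hw, mul_assoc _ (u g x 5) (u g x 5), u_sq h ht, mul_one]
  have hw0 : u g x 5 * u g x 0 * u g x 5 = u g x 0 * w := by
    rw [hw]
    calc u g x 5 * u g x 0 * u g x 5 = (u g x 0 * u g x 0) * u g x 5 * u g x 0 * u g x 5 := by
          rw [u_sq h ht, one_mul]
      _ = _ := by group
  have hw1 : w ∈ Sg g x 2 5 := by
    obtain ⟨v, hv, h1 | h1⟩ := seg_left h ht hC (by omega) (by omega) hwm
    · rw [h1]; exact hv
    · exfalso
      apply nc 1
      have hv1 : Commute (u g x 1) v := commute_seg hC (a := 1) (b := 2) (c := 2) (d := 5)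
        (fun k l h1 h2 h3 h4 => by omega) (mem_Sg g x le_rfl (by omega)) hv
      have hv5 : Commute (u g x 5) v := commute_seg hC (a := 5) (b := 6) (c := 2) (d := 5)
        (fun k l h1 h2 h3 h4 => by omega) (mem_Sg g x le_rfl (by omega)) hv
      have hvv := seg_sq h ht hC (a := 2) (b := 5) (by omega) hv
      have h2 : (w * u g x 5) * (w * u g x 5) = 1 := by
        rw [← hw5]
        calc u g x 0 * u g x 5 * u g x 0 * (u g x 0 * u g x 5 * u g x 0)
            = u g x 0 * u g x 5 * (u g x 0 * u g x 0) * u g x 5 * u g x 0 := by group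
          _ = u g x 0 * (u g x 5 * u g x 5) * u g x 0 := by rw [u_sq h ht]; group
          _ = 1 := by rw [u_sq h ht 5, mul_one, u_sq h ht]
      rw [h1] at h2
      have h3 : (u g x 1 * v * u g x 5) * (u g x 1 * v * u g x 5) = (u g x 1 * u g x 5) * (u g x 1 * u g x 5) := by
        calc (u g x 1 * v * u g x 5) * (u g x 1 * v * u g x 5)
            = u g x 1 * (v * u g x 5) * (u g x 1 * (v * u g x 5)) := by group
          _ = u g x 1 * (u g x 5 * v) * (u g x 1 * (u g x 5 * v)) := by rw [← hv5.eq]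
          _ = u g x 1 * u g x 5 * (v * u g x 1) * u g x 5 * v := by group
          _ = u g x 1 * u g x 5 * (u g x 1 * v) * u g x 5 * v := by rw [← hv1.eq]
          _ = u g x 1 * u g x 5 * u g x 1 * (v * u g x 5) * v := by group
          _ = u g x 1 * u g x 5 * u g x 1 * (u g x 5 * v) * v := by rw [← hv5.eq]
          _ = (u g x 1 * u g x 5) * (u g x 1 * u g x 5) * (v * v) := by group
          _ = _ := by rw [hvv, mul_one]
      rw [h3] at h2
      have h4 := eq_inv_of_mul_eq_one_left h2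
      rw [mul_inv_rev, u_inv h ht, u_inv h ht] at h4
      exact h4
  have hw2 : w ∈ Sg g x 1 4 := by
    obtain ⟨v, hv, h1 | h1⟩ := seg_right h ht hC (a := 1) (b := 4) (by omega) (by omega) hwm
    · rw [h1]; exact hv
    · exfalso
      apply hnC4
      have hv0 : Commute (u g x 0) v := commute_seg hC (a := 0) (b := 1) (c := 1) (d := 4)
        (fun k l h1 h2 h3 h4 => by omega) (mem_Sg g x le_rfl (by omega)) hv
      have hv4 : Commute (u g x 4) v := commute_seg hC (a := 4) (b := 5) (c := 1) (d := 4)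
        (fun k l h1 h2 h3 h4 => by omega) (mem_Sg g x le_rfl (by omega)) hv
      have hvv := seg_sq h ht hC (a := 1) (b := 4) (by omega) hv
      have h2 : (u g x 0 * w) * (u g x 0 * w) = 1 := by
        rw [← hw0]
        calc u g x 5 * u g x 0 * u g x 5 * (u g x 5 * u g x 0 * u g x 5)
            = u g x 5 * u g x 0 * (u g x 5 * u g x 5) * u g x 0 * u g x 5 := by group
          _ = u g x 5 * (u g x 0 * u g x 0) * u g x 5 := by rw [u_sq h ht]; group
          _ = 1 := by rw [u_sq h ht 0, mul_one, u_sq h ht]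
      rw [h1] at h2
      have h3 : (u g x 0 * (v * u g x 4)) * (u g x 0 * (v * u g x 4)) = (u g x 0 * u g x 4) * (u g x 0 * u g x 4) := by
        calc (u g x 0 * (v * u g x 4)) * (u g x 0 * (v * u g x 4))
            = (u g x 0 * v) * u g x 4 * (u g x 0 * v) * u g x 4 := by group
          _ = (v * u g x 0) * u g x 4 * (v * u g x 0) * u g x 4 := by rw [hv0.eq]
          _ = v * u g x 0 * (u g x 4 * v) * u g x 0 * u g x 4 := by group
          _ = v * u g x 0 * (v * u g x 4) * u g x 0 * u g x 4 := by rw [hv4.eq]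
          _ = v * (u g x 0 * v) * u g x 4 * u g x 0 * u g x 4 := by group
          _ = v * (v * u g x 0) * u g x 4 * u g x 0 * u g x 4 := by rw [hv0.eq]
          _ = (v * v) * ((u g x 0 * u g x 4) * (u g x 0 * u g x 4)) := by group
          _ = _ := by rw [hvv, one_mul]
      rw [h3] at h2
      have h4 := eq_inv_of_mul_eq_one_left h2
      rw [mul_inv_rev, u_inv h ht, u_inv h ht] at h4
      exact h4
  have hwz : w ∈ Sg g x 2 4 := by
    rw [← inf_seg h (a := 1) (b := 4) (by omega) (by omega)]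
    exact mem_inf.2 ⟨hw2, hw1⟩
  -- the shifted `w`
  have hw' : u g x 1 * u g x 6 * u g x 1 * u g x 6 ∈ Sg g x 3 5 := by
    have e0 := u_add g x 0 1
    have e5 := u_add g x 5 1
    have e1 := Sg_conj g x 2 4 1
    rw [zero_add] at e0
    rw [show 5 + 1 = 6 from rfl] at e5
    rw [← e1]
    refine ⟨w, hwz, ?_⟩
    change (g ^ 1)⁻¹ * w * ((g ^ 1)⁻¹)⁻¹ = _
    rw [e0, e5, hw]
    group
  have cc : ∀ i j, i < j + 4 → j < i + 4 → u g x i * u g x j * u g x i = u g x j := by
    intro i j h1 h2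
    rw [(commute_of hC h1 h2).eq, mul_assoc, u_sq h ht, mul_one]
  have c4 : ∀ i, u g x i * u g x (i + 4) * u g x i = u g x (i + 2) * u g x (i + 4) := by
    intro i
    rw [← hi4 i, mul_assoc _ (u g x (i + 4)) (u g x (i + 4)), u_sq h ht, mul_one]
  have c4' : ∀ i, u g x (i + 4) * u g x i * u g x (i + 4) = u g x i * u g x (i + 2) := by
    intro i
    rw [← hi4 i]
    calc u g x (i + 4) * u g x i * u g x (i + 4) = (u g x i * u g x i) * u g x (i + 4) * u g x i * u g x (i + 4) := by
          rw [u_sq h ht, one_mul]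
      _ = _ := by group
  -- both segments are normalised by `u₀, …, u₆`
  have n2 : Sg g x 0 7 ≤ normalizer ((Sg g x 1 5 : Subgroup G) : Set G) := by
    conv_lhs => rw [Sg]
    rw [closure_le]
    rintro y ⟨i, -, hi, rfl⟩
    apply normalizes h ht
    intro j hj1 hj2
    by_cases hd : i < j + 4 ∧ j < i + 4
    · rw [cc i j hd.1 hd.2]
      exact mem_Sg g x hj1 hj2
    · have hcases : (i = 0 ∧ j = 4) ∨ (i = 5 ∧ j = 1) ∨ (i = 6 ∧ j = 1) ∨ (i = 6 ∧ j = 2) := by omega
      rcases hcases with ⟨rfl, rfl⟩ | ⟨rfl, rfl⟩ | ⟨rfl, rfl⟩ | ⟨rfl, rfl⟩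
      · rw [show u g x 0 * u g x 4 * u g x 0 = u g x 2 * u g x 4 from c4 0]
        exact mul_mem (mem_Sg g x (by omega) (by omega)) (mem_Sg g x (by omega) (by omega))
      · rw [show u g x 5 * u g x 1 * u g x 5 = u g x 1 * u g x 3 from c4' 1]
        exact mul_mem (mem_Sg g x (by omega) (by omega)) (mem_Sg g x (by omega) (by omega))
      · have h1 : u g x 6 * u g x 1 * u g x 6 = u g x 1 * (u g x 1 * u g x 6 * u g x 1 * u g x 6) := by
          calc u g x 6 * u g x 1 * u g x 6 = (u g x 1 * u g x 1) * u g x 6 * u g x 1 * u g x 6 := by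
                rw [u_sq h ht, one_mul]
            _ = _ := by group
        rw [h1]
        exact mul_mem (mem_Sg g x (by omega) (by omega)) (Sg_mono g x (by omega) le_rfl hw')
      · rw [show u g x 6 * u g x 2 * u g x 6 = u g x 2 * u g x 4 from c4' 2]
        exact mul_mem (mem_Sg g x (by omega) (by omega)) (mem_Sg g x (by omega) (by omega))
  have n3 : Sg g x 0 7 ≤ normalizer ((Sg g x 2 6 : Subgroup G) : Set G) := by
    conv_lhs => rw [Sg]
    rw [closure_le]
    rintro y ⟨i, -, hi, rfl⟩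
    apply normalizes h ht
    intro j hj1 hj2
    by_cases hd : i < j + 4 ∧ j < i + 4
    · rw [cc i j hd.1 hd.2]
      exact mem_Sg g x hj1 hj2
    · have hcases : (i = 0 ∧ j = 4) ∨ (i = 0 ∧ j = 5) ∨ (i = 1 ∧ j = 5) ∨ (i = 6 ∧ j = 2) := by omega
      rcases hcases with ⟨rfl, rfl⟩ | ⟨rfl, rfl⟩ | ⟨rfl, rfl⟩ | ⟨rfl, rfl⟩
      · rw [show u g x 0 * u g x 4 * u g x 0 = u g x 2 * u g x 4 from c4 0]
        exact mul_mem (mem_Sg g x (by omega) (by omega)) (mem_Sg g x (by omega) (by omega))
      · rw [hw5]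
        exact mul_mem (Sg_mono g x le_rfl (by omega) hwz) (mem_Sg g x (by omega) (by omega))
      · rw [show u g x 1 * u g x 5 * u g x 1 = u g x 3 * u g x 5 from c4 1]
        exact mul_mem (mem_Sg g x (by omega) (by omega)) (mem_Sg g x (by omega) (by omega))
      · rw [show u g x 6 * u g x 2 * u g x 6 = u g x 2 * u g x 4 from c4' 2]
        exact mul_mem (mem_Sg g x (by omega) (by omega)) (mem_Sg g x (by omega) (by omega))
  have n3' : Sg g x 1 8 ≤ normalizer ((Sg g x 2 6 : Subgroup G) : Set G) := by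
    have e1 := Sg_conj g x 0 7 1
    have e2 := Sg_conj g x 1 5 1
    rw [zero_add] at e1
    rw [show 1 + 1 = 2 from rfl, show 5 + 1 = 6 from rfl] at e2
    rw [show 7 + 1 = 8 from rfl] at e1
    rw [← e1, ← e2]
    rintro _ ⟨y, hy, rfl⟩
    have h1 := n2 hy
    rw [mem_normalizer_iff] at h1 ⊢
    intro z
    have e3 : ∀ z, z ∈ (Sg g x 1 5).map (MulAut.conj (g ^ 1)⁻¹).toMonoidHom ↔ (g ^ 1) * z * (g ^ 1)⁻¹ ∈ Sg g x 1 5 := by
      intro z
      exact mem_cg (g := g ^ 1)
    rw [e3, e3, h1]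
    have e4 : g ^ 1 * ((MulAut.conj (g ^ 1)⁻¹).toMonoidHom y * z * ((MulAut.conj (g ^ 1)⁻¹).toMonoidHom y)⁻¹) * (g ^ 1)⁻¹ =
        y * (g ^ 1 * z * (g ^ 1)⁻¹) * y⁻¹ := by
      change g ^ 1 * (((g ^ 1)⁻¹ * y * ((g ^ 1)⁻¹)⁻¹) * z * ((g ^ 1)⁻¹ * y * ((g ^ 1)⁻¹)⁻¹)⁻¹) * (g ^ 1)⁻¹ = _
      group
    rw [e4]
  have hfin := hE (Sg g x 2 6) (Sg_mono g x (by omega) le_rfl) (by
    rw [← Sg_sup g x (a := 0) (b := 7) (c := 8) (by omega) (by omega)]
    exact sup_le n3 ((Sg_mono g x (by omega) le_rfl).trans n3'))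
  have h2 : u g x 2 ∈ Sg g x 2 6 := mem_Sg g x le_rfl (by omega)
  rw [hfin, mem_bot] at h2
  exact u_ne h ht 2 h2

end Cfsg.Agent.H20.GIso
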