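import Mathlib
import Cfsg.Agent.H20.GIsoD

/-!
Common setup for Sims' suborbit-3 theorem and Glauberman's dihedral theorem (S3385, S3685, S4385). Owner: helper20.
-/

set_option autoImplicit false

namespace Cfsg.Agent.H20.GIso

open Subgroup

variable {G : Type*} [Group G] [Finite G]

theorem cg_of_mem {X : Subgroup G} {g : G} (h : g ∈ normalizer (X : Set G)) : cg g X = X := by
  ext y
  rw [mem_cg]
  exact (mem_normalizer_iff.1 h y).symm

theorem mem_normalizer_of_cg {X : Subgroup G} {g : G} (h : cg g X = X) : g ∈ normalizer (X : Set G) := by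
  rw [mem_normalizer_iff]
  intro y
  rw [← mem_cg, h]

theorem cg_mul (a b : G) (X : Subgroup G) : cg (a * b) X = cg b (cg a X) := by
  ext y
  rw [mem_cg, mem_cg, mem_cg]
  have : a * b * y * (a * b)⁻¹ = a * (b * y * b⁻¹) * a⁻¹ := by group
  rw [this]

theorem cg_normalizer {g : G} {X N : Subgroup G} (h : X ≤ normalizer (N : Set G)) :
    cg g X ≤ normalizer ((cg g N : Subgroup G) : Set G) := by
  intro y hy
  rw [mem_cg] at hy
  have h1 := mem_normalizer_iff.1 (h hy)
  rw [mem_normalizer_iff]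
  intro z
  rw [mem_cg, mem_cg, h1]
  have : g * y * g⁻¹ * (g * z * g⁻¹) * (g * y * g⁻¹)⁻¹ = g * (y * z * y⁻¹) * g⁻¹ := by group
  rw [this]

/-- The common setup. -/
theorem core_setup {H T : Subgroup G} {h y : G} (hh : h ∈ H) (hyT : cg y T = T)
    (hgen : T ⊔ cg h T = H) (hQn : H ≤ normalizer ((T ⊓ cg h T : Subgroup G) : Set G))
    (hQi : (T ⊓ cg h T).relIndex T = 2)
    (hN : ∀ N : Subgroup G, N ≤ T → H ≤ normalizer (N : Set G) → cg y N = N → N = ⊥)
    (hE : ∀ E : Subgroup G, E ≤ T → H ≤ normalizer (E : Set G) → cg (y * h) H ≤ normalizer (E : Set G) → E = ⊥) :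
    ∃ x t, 1 ≤ t ∧ t ≤ 4 ∧ GS (y * h) x 2 t ∧ Sg (y * h) x 0 t = T ∧ Sg (y * h) x 0 (t + 1) = H ∧
      Sg (y * h) x 1 t = T ⊓ cg h T ∧
      (∀ z ∈ Sg (y * h) x 0 t, (∀ w ∈ Sg (y * h) x 0 (t + 2), z * w = w * z) → z = 1) := by
  haveI : Fact (Nat.Prime 2) := ⟨Nat.prime_two⟩
  have hT : T ≤ H := hgen ▸ le_sup_left
  have hTh : cg h T ≤ H := hgen ▸ le_sup_right
  have hg : cg (y * h) T = cg h T := by rw [cg_mul, hyT]
  have hcards : Nat.card ↥(cg h T) = Nat.card T := cg_card h T
  have hidx : (T ⊓ cg (y * h) T).relIndex (cg (y * h) T) = 2 := by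
    rw [hg]
    have h1 := Cfsg.Agent.H11.card_mul_relIndex (inf_le_right : T ⊓ cg h T ≤ cg h T)
    have h2 := Cfsg.Agent.H11.card_mul_relIndex (inf_le_left : T ⊓ cg h T ≤ T)
    rw [hQi] at h2
    rw [hcards, ← h2] at h1
    exact Nat.eq_of_mul_eq_mul_left Nat.card_pos h1
  have hn : ((T ⊓ cg (y * h) T).subgroupOf (cg (y * h) T)).Normal := by
    rw [hg]
    exact (normal_subgroupOf_iff_le_normalizer inf_le_right).2 (hTh.trans hQn)
  have hhH : cg h H = H := cg_of_mem (le_normalizer hh)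
  obtain ⟨x, t, ht, hGS, hST⟩ := exists_GS hn hidx (by
    intro N hNT hNn hgN
    have hNn' : T ≤ normalizer (N : Set G) := (normal_subgroupOf_iff_le_normalizer hNT).1 hNn
    have e1 : cg y N = cg h⁻¹ N := by
      rw [cg_mul] at hgN
      rw [← cg_inv_cg h (cg y N), hgN]
    have m1 : T ≤ normalizer ((cg h⁻¹ N : Subgroup G) : Set G) := by
      rw [← e1]
      have := cg_normalizer (g := y) hNn'
      rwa [hyT] at this
    have m2 : cg h T ≤ normalizer (N : Set G) := by
      have := cg_normalizer (g := h) m1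
      rwa [cg_cg_inv] at this
    have m3 : H ≤ normalizer (N : Set G) := by
      rw [← hgen]; exact sup_le hNn' m2
    have e2 : cg h⁻¹ N = N := cg_of_mem (m3 (inv_mem hh))
    exact hN N hNT m3 (e1.trans e2))
  have hS1 : Sg (y * h) x 1 (t + 1) = cg h T := by
    have := Sg_conj (y * h) x 0 t 1
    rw [zero_add, pow_one, hST] at this
    rw [← this]
    exact hg
  have hSH : Sg (y * h) x 0 (t + 1) = H := by
    rw [← hgen, ← hS1]
    apply le_antisymm
    · rw [← Sg_sup (y * h) x (a := 0) (b := 1) (c := t + 1) (by omega) (by omega)]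
      apply sup_le_sup _ le_rfl
      rw [← hST]
      exact Sg_mono _ _ le_rfl (by omega)
    · apply sup_le
      · rw [← hST]; exact Sg_mono _ _ le_rfl (by omega)
      · exact Sg_mono _ _ (by omega) le_rfl
  have hSQ : Sg (y * h) x 1 t = T ⊓ cg h T := by
    apply Subgroup.eq_of_le_of_card_ge
    · apply le_inf
      · rw [← hST]; exact Sg_mono _ _ (by omega) le_rfl
      · rw [← hS1]; exact Sg_mono _ _ le_rfl (by omega)
    · have h1 := card_Sg hGS (a := 1) (b := t) (by omega) (by omega)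
      have h2 := Cfsg.Agent.H11.card_mul_relIndex (inf_le_left : T ⊓ cg h T ≤ T)
      have h3 := card_Sg hGS (a := 0) (b := t) (by omega) (by omega)
      rw [hQi, ← hST, h3, Nat.sub_zero] at h2
      rw [h1, ← hST]
      have h4 : 2 ^ t = 2 ^ (t - 1) * 2 := by rw [← pow_succ]; congr 1; omega
      omega
  have hS2 : Sg (y * h) x 0 (t + 2) = H ⊔ cg (y * h) H := by
    have h1 : Sg (y * h) x 1 (t + 2) = cg (y * h) H := by
      have := Sg_conj (y * h) x 0 (t + 1) 1
      rw [zero_add, pow_one, hSH] at this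
      rw [← this]
      rfl
    rw [← h1, ← hSH]
    apply le_antisymm
    · rw [← Sg_sup (y * h) x (a := 0) (b := 1) (c := t + 2) (by omega) (by omega)]
      exact sup_le_sup (Sg_mono _ _ le_rfl (by omega)) le_rfl
    · exact sup_le (Sg_mono _ _ le_rfl (by omega)) (Sg_mono _ _ (by omega) le_rfl)
  have hE' : ∀ E : Subgroup G, E ≤ Sg (y * h) x 0 t → Sg (y * h) x 0 (t + 2) ≤ normalizer (E : Set G) → E = ⊥ := by
    intro E hE1 hE2
    rw [hS2] at hE2
    rw [hST] at hE1
    exact hE E hE1 (le_sup_left.trans hE2) (le_sup_right.trans hE2)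
  have h4 := t_le_four hGS ht hE'
  refine ⟨x, t, ht, h4, hGS, hST, hSH, hSQ, ?_⟩
  intro z hz hzc
  have h1 := hE' (zpowers z) (by rw [zpowers_le]; exact hz) (by
    intro w hw
    have hc : Commute w z := (hzc w hw).symm
    have hcc : ∀ v ∈ zpowers z, Commute w v := by
      intro v hv
      obtain ⟨n, rfl⟩ := mem_zpowers_iff.1 hv
      exact hc.zpow_right n
    apply mem_normalizer_of_cg
    ext v
    rw [mem_cg]
    constructor
    · intro hv
      have h2 := (hcc _ hv).inv_left
      have : v = w * v * w⁻¹ := by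
        calc v = w⁻¹ * (w * v * w⁻¹) * w := by group
          _ = (w * v * w⁻¹) * w⁻¹ * w := by rw [h2.eq]
          _ = w * v * w⁻¹ := by group
      rw [this]; exact hv
    · intro hv
      rw [(hcc v hv).eq]
      rwa [mul_inv_cancel_right])
  exact zpowers_eq_bot.1 h1

end Cfsg.Agent.H20.GIso
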