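import Mathlib
import Cfsg.Agent.H20.GIsoE

/-!
Primitive groups with a suborbit of length three: setup (S3385, S3685). Owner: helper20.
-/

set_option autoImplicit false

namespace Cfsg.Agent.H20.GIso

open Subgroup

variable {G : Type*} [Group G]

theorem le_normalizer_closure {H : Subgroup G} {S : Set G} (hS : ∀ h ∈ H, ∀ x ∈ S, h * x * h⁻¹ ∈ S) :
    H ≤ normalizer ((closure S : Subgroup G) : Set G) := by
  have key : ∀ h ∈ H, ∀ x ∈ closure S, h * x * h⁻¹ ∈ closure S := by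
    intro h hh x hx
    induction hx using Subgroup.closure_induction with
    | mem x hx => exact subset_closure (hS h hh x hx)
    | one => simp
    | mul x y _ _ ihx ihy =>
      have : h * (x * y) * h⁻¹ = (h * x * h⁻¹) * (h * y * h⁻¹) := by group
      rw [this]; exact mul_mem ihx ihy
    | inv x _ ih =>
      have : h * x⁻¹ * h⁻¹ = (h * x * h⁻¹)⁻¹ := by group
      rw [this]; exact inv_mem ih
  intro h hh
  rw [mem_normalizer_iff]
  intro x
  constructor
  · intro hx; exact key h hh x hx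
  · intro hx
    have h1 := key h⁻¹ (inv_mem hh) _ hx
    have : h⁻¹ * (h * x * h⁻¹) * h⁻¹⁻¹ = x := by group
    rwa [this] at h1

variable [Finite G]

theorem normalCore_data {T H : Subgroup G} (hTH : T ≤ H) (h3 : T.relIndex H = 3) :
    ∃ C : Subgroup G, C ≤ T ∧ H ≤ normalizer (C : Set G) ∧ (Nat.card T = Nat.card C ∨ Nat.card T = 2 * Nat.card C) ∧
      (∀ h ∈ H, C ≤ cg h T) := by
  set C' := (T.subgroupOf H).normalCore with hC'
  have hdvd : C'.index ∣ 6 := by
    have : (T.subgroupOf H).normalCore.index ∣ (T.subgroupOf H).index.factorial := by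
      rw [normalCore_eq_ker, index_ker, index_eq_card, ← Nat.card_perm]
      exact card_subgroup_dvd_card _
    have h4 : (T.subgroupOf H).index = 3 := h3
    rw [h4] at this
    exact this
  have hle : C' ≤ T.subgroupOf H := normalCore_le _
  have hCn : C'.Normal := normalCore_normal _
  have hCT : C'.map H.subtype ≤ T := by
    rintro _ ⟨x, hx, rfl⟩
    exact hle hx
  have hnorm : H ≤ normalizer ((C'.map H.subtype : Subgroup G) : Set G) := by
    intro h hh
    rw [mem_normalizer_iff]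
    intro x
    constructor
    · rintro ⟨z, hz, rfl⟩
      exact ⟨⟨h, hh⟩ * z * ⟨h, hh⟩⁻¹, hCn.conj_mem z hz _, rfl⟩
    · rintro ⟨z, hz, hzx⟩
      refine ⟨⟨h, hh⟩⁻¹ * z * ⟨h, hh⟩⁻¹⁻¹, hCn.conj_mem z hz _, ?_⟩
      change h⁻¹ * (z : G) * h⁻¹⁻¹ = x
      change (z : G) = h * x * h⁻¹ at hzx
      rw [hzx]; group
  refine ⟨C'.map H.subtype, hCT, hnorm, ?_, ?_⟩
  · have hcC : Nat.card ↥(C'.map H.subtype) = Nat.card C' :=
      Nat.card_congr (equivMapOfInjective _ _ H.subtype_injective).symm.toEquiv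
    have h1 := C'.card_mul_index
    have h2 := Cfsg.Agent.H11.card_mul_relIndex hTH
    rw [h3] at h2
    have h5 : Nat.card C' ∣ Nat.card T := by rw [← hcC]; exact card_dvd_of_le hCT
    obtain ⟨d, hd⟩ := h5
    rw [hcC, hd]
    rw [hd, ← h1, mul_assoc] at h2
    have h6 := Nat.eq_of_mul_eq_mul_left Nat.card_pos h2
    obtain ⟨e, he⟩ := hdvd
    rw [← h6] at he
    have h7 : d ∣ 2 := by
      refine ⟨e, ?_⟩
      have : 3 * 2 = 3 * (d * e) := by rw [← mul_assoc, mul_comm 3 d]; exact he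
      exact Nat.eq_of_mul_eq_mul_left (by norm_num) this
    rcases (Nat.dvd_prime Nat.prime_two).1 h7 with h | h
    · left; rw [h, mul_one]
    · right; rw [h, mul_comm]
  · intro h hh x hx
    rw [mem_cg]
    exact hCT ((mem_normalizer_iff.1 (hnorm hh) x).1 hx)

theorem odd_mem {T H C : Subgroup G} (hTH : T ≤ H) (hC : C ≤ T) (hHC : H ≤ normalizer (C : Set G))
    (hcard : Nat.card T = Nat.card C ∨ Nat.card T = 2 * Nat.card C) {x : G} (hx : x ∈ T) (ho : Odd (orderOf x)) :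
    x ∈ C := by
  rcases hcard with h | h
  · have := Subgroup.eq_of_le_of_card_ge hC h.le
    rwa [this]
  · have hn : (C.subgroupOf T).Normal := (normal_subgroupOf_iff_le_normalizer hC).2 (hTH.trans hHC)
    have hidx : (C.subgroupOf T).index = 2 := by
      have h1 := Cfsg.Agent.H11.card_mul_relIndex hC
      rw [h, mul_comm] at h1
      exact Nat.eq_of_mul_eq_mul_right Nat.card_pos h1
    have h2 : (⟨x, hx⟩ : T) ^ (C.subgroupOf T).index ∈ C.subgroupOf T := Subgroup.pow_index_mem _ _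
    rw [hidx] at h2
    have h3 : x ^ 2 ∈ C := h2
    obtain ⟨k, hk⟩ := ho
    have h4 : x = (x ^ 2) ^ (k + 1) := by
      rw [← pow_mul, show 2 * (k + 1) = (2 * k + 1) + 1 by ring, pow_succ, ← hk, pow_orderOf_eq_one, one_mul]
    rw [h4]
    exact pow_mem h3 _

theorem exists_conj {K A B : Subgroup G} (hA : A ≤ K) (hB : B ≤ K) (hAB : Nat.card A = Nat.card B)
    {n : ℕ} (h2 : Nat.card A = 2 ^ n) (hidx : ¬ 2 ∣ A.relIndex K) : ∃ c ∈ K, cg c A = B := by
  haveI : Fact (Nat.Prime 2) := ⟨Nat.prime_two⟩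
  have hA2 : IsPGroup 2 (A.subgroupOf K) := IsPGroup.of_card (n := n) (by
    rw [Nat.card_congr (subgroupOfEquivOfLe hA).toEquiv, h2])
  have hB2 : IsPGroup 2 (B.subgroupOf K) := IsPGroup.of_card (n := n) (by
    rw [Nat.card_congr (subgroupOfEquivOfLe hB).toEquiv, ← hAB, h2])
  have hidxB : ¬ 2 ∣ (B.subgroupOf K).index := by
    have h3 := Cfsg.Agent.H11.card_mul_relIndex hA
    have h4 := Cfsg.Agent.H11.card_mul_relIndex hB
    rw [← h3, hAB] at h4
    have h5 := Nat.eq_of_mul_eq_mul_left Nat.card_pos h4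
    change ¬ 2 ∣ B.relIndex K
    rw [h5]; exact hidx
  let PA : Sylow 2 K := hA2.toSylow hidx
  let PB : Sylow 2 K := hB2.toSylow hidxB
  obtain ⟨c, hc⟩ := MulAction.exists_smul_eq K PA PB
  refine ⟨(c : G)⁻¹, inv_mem c.2, ?_⟩
  apply Subgroup.eq_of_le_of_card_ge
  · intro z hz
    rw [mem_cg] at hz
    have hzK : (c : G)⁻¹ * z * (c : G)⁻¹⁻¹ ∈ K := hA hz
    have h5 : (⟨_, hzK⟩ : K) ∈ (PA : Subgroup K) := hz
    have h6 : c * ⟨_, hzK⟩ * c⁻¹ ∈ ((c • PA : Sylow 2 K) : Subgroup K) := by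
      rw [Sylow.coe_subgroup_smul]
      exact Subgroup.smul_mem_pointwise_smul _ (MulAut.conj c) _ h5
    rw [hc] at h6
    have h7 : (c : G) * ((c : G)⁻¹ * z * (c : G)⁻¹⁻¹) * (c : G)⁻¹ ∈ B := h6
    have : (c : G) * ((c : G)⁻¹ * z * (c : G)⁻¹⁻¹) * (c : G)⁻¹ = z := by group
    rwa [this] at h7
  · rw [cg_card, hAB]

end Cfsg.Agent.H20.GIso
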