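import Mathlib
import Cfsg.Agent.H20.GIsoF

/-!
Primitive groups with a suborbit of length three: setup (S3385, S3685). Owner: helper20.
-/

set_option autoImplicit false
set_option maxHeartbeats 800000

namespace Cfsg.Agent.H20.GIso

open Subgroup

variable {G : Type*} [Group G] [Finite G] {Ω : Type*} [MulAction G Ω] [FaithfulSMul G Ω]

theorem normal_eq_bot (htr : MulAction.IsPretransitive G Ω) (a : Ω) {N : Subgroup G}
    (hN : N ≤ MulAction.stabilizer G a) (hNn : ∀ g : G, g ∈ normalizer (N : Set G)) : N = ⊥ := by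
  rw [eq_bot_iff]
  intro x hx
  rw [mem_bot]
  apply FaithfulSMul.eq_of_smul_eq_smul (α := Ω)
  intro ω
  obtain ⟨g, rfl⟩ := htr.exists_smul_eq a ω
  have h1 : g⁻¹ * x * g⁻¹⁻¹ ∈ N := (mem_normalizer_iff.1 (hNn g⁻¹) x).1 hx
  have h2 : (g⁻¹ * x * g⁻¹⁻¹) • a = a := hN h1
  rw [one_smul, ← mul_smul, show x * g = g * (g⁻¹ * x * g⁻¹⁻¹) by group, mul_smul, h2]

theorem sims_setup (hprim : MulAction.IsPreprimitive G Ω) (a b : Ω)
    (h3 : Nat.card (MulAction.orbit (MulAction.stabilizer G a) b) = 3) :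
    Nat.card (MulAction.stabilizer G a) = 3 ∨ ∃ g x t, 1 ≤ t ∧ t ≤ 4 ∧ GS g x 2 t ∧
      Sg g x 0 (t + 1) = MulAction.stabilizer G a ∧ Nat.card (MulAction.stabilizer G a) = 3 * 2 ^ t ∧
      (∀ z ∈ Sg g x 0 t, (∀ w ∈ Sg g x 0 (t + 2), z * w = w * z) → z = 1) := by
  classical
  haveI : Fact (Nat.Prime 2) := ⟨Nat.prime_two⟩
  have htr : MulAction.IsPretransitive G Ω := hprim.toIsPretransitive
  set H := MulAction.stabilizer G a with hH
  set K := MulAction.stabilizer G b with hK
  have hfix : ¬ H ≤ K := by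
    intro hle
    have h1 : MulAction.orbit H b = {b} := by
      ext c
      constructor
      · rintro ⟨h, rfl⟩
        exact hle h.2
      · rintro rfl
        exact MulAction.mem_orbit_self _
    rw [h1] at h3
    simp at h3
  have hab : a ≠ b := by
    rintro rfl
    exact hfix le_rfl
  haveI : Nontrivial Ω := ⟨⟨a, b, hab⟩⟩
  have hmax : IsCoatom H := by
    haveI := hprim
    exact MulAction.IsPreprimitive.isCoatom_stabilizer_of_isPreprimitive G a
  set T := H ⊓ K with hT
  have hTH : T ≤ H := inf_le_left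
  have hTK : T ≤ K := inf_le_right
  have hidx : T.relIndex H = 3 := by
    have h1 : T.subgroupOf H = MulAction.stabilizer H b := by
      ext h
      rw [mem_subgroupOf, MulAction.mem_stabilizer_iff]
      constructor
      · intro h1; exact h1.2
      · intro h1; exact ⟨h.2, h1⟩
    change (T.subgroupOf H).index = 3
    rw [h1, MulAction.index_stabilizer, ← h3]
    rfl
  obtain ⟨g, hg⟩ := htr.exists_smul_eq a b
  have hKH : K = cg g⁻¹ H := by
    rw [hK, ← hg, MulAction.stabilizer_smul_eq_stabilizer_map_conj, hH, cg, inv_inv]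
  have hcKH : Nat.card K = Nat.card H := by rw [hKH, cg_card]
  have hcH := Cfsg.Agent.H11.card_mul_relIndex hTH
  have hcK := Cfsg.Agent.H11.card_mul_relIndex hTK
  rw [hidx] at hcH
  have hidxK : T.relIndex K = 3 := by
    rw [hcKH, ← hcH] at hcK
    exact Nat.eq_of_mul_eq_mul_left Nat.card_pos hcK
  have hKH' : ¬ K ≤ H := by
    intro hle
    have := Subgroup.eq_of_le_of_card_ge hle hcKH.ge
    exact hfix this.ge
  have hsup : ∀ N : Subgroup G, H ≤ normalizer (N : Set G) → (∃ y, y ∉ H ∧ y ∈ normalizer (N : Set G)) → N ≤ H →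
      N = ⊥ := by
    intro N hN1 hN2 hN3
    obtain ⟨y, hy1, hy2⟩ := hN2
    have h1 : normalizer (N : Set G) = ⊤ := hmax.2 _ (lt_of_le_of_ne hN1 (by
      intro h; rw [← h] at hy2; exact hy1 hy2))
    apply normal_eq_bot htr a hN3
    intro g; rw [h1]; exact mem_top g
  -- `T` is a 2-group
  obtain ⟨C, hC1, hC2, hC3, hC4⟩ := normalCore_data hTH hidx
  obtain ⟨C', hC1', hC2', hC3', hC4'⟩ := normalCore_data hTK hidxK
  have hodd : ∀ x ∈ T, Odd (orderOf x) → x = 1 := by
    have hX : closure {x | x ∈ T ∧ Odd (orderOf x)} = ⊥ := by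
      have hn1 : H ≤ normalizer ((closure {x | x ∈ T ∧ Odd (orderOf x)} : Subgroup G) : Set G) := by
        apply le_normalizer_closure
        rintro h hh x ⟨hx1, hx2⟩
        refine ⟨?_, ?_⟩
        · exact hC1 ((mem_normalizer_iff.1 (hC2 hh) x).1 (odd_mem hTH hC1 hC2 hC3 hx1 hx2))
        · have : orderOf (h * x * h⁻¹) = orderOf x := (MulAut.conj h).orderOf_eq x
          rwa [this]
      have hn2 : K ≤ normalizer ((closure {x | x ∈ T ∧ Odd (orderOf x)} : Subgroup G) : Set G) := by
        apply le_normalizer_closure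
        rintro h hh x ⟨hx1, hx2⟩
        refine ⟨?_, ?_⟩
        · exact hC1' ((mem_normalizer_iff.1 (hC2' hh) x).1 (odd_mem hTK hC1' hC2' hC3' hx1 hx2))
        · have : orderOf (h * x * h⁻¹) = orderOf x := (MulAut.conj h).orderOf_eq x
          rwa [this]
      obtain ⟨y, hy1, hy2⟩ := SetLike.not_le_iff_exists.1 hKH'
      apply hsup _ hn1 ⟨y, hy2, hn2 hy1⟩
      rw [closure_le]
      rintro x ⟨hx, -⟩
      exact hTH hx
    intro x hx ho
    rw [← mem_bot, ← hX]
    exact subset_closure ⟨hx, ho⟩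
  have hT2 : Nat.card T = 2 ^ (Nat.card T).primeFactorsList.length := by
    apply Nat.eq_prime_pow_of_unique_prime_dvd Nat.card_pos.ne'
    intro r hr hrd
    haveI : Fact r.Prime := ⟨hr⟩
    by_contra hrp
    obtain ⟨x, hx⟩ := exists_prime_orderOf_dvd_card' (G := T) r hrd
    have h2 := hodd x x.2 (by
      rw [Subgroup.orderOf_coe, hx]
      exact hr.odd_of_ne_two hrp)
    rw [← Subgroup.orderOf_coe, h2, orderOf_one] at hx
    exact hr.one_lt.ne hx
  set k := (Nat.card T).primeFactorsList.length with hk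
  -- the element `y`
  obtain ⟨c, hcK', hc⟩ := exists_conj (K := K) (A := cg g⁻¹ T) (B := T) (hKH ▸ cg_mono hTH) hTK (cg_card _ _)
    (n := k) (by rw [cg_card]; exact hT2) (by
      have h1 := Cfsg.Agent.H11.card_mul_relIndex (H := cg g⁻¹ T) (K := K) (hKH ▸ cg_mono hTH)
      rw [cg_card, hcKH, ← hcH] at h1
      rw [Nat.eq_of_mul_eq_mul_left Nat.card_pos h1]
      norm_num)
  set y := g⁻¹ * c with hy
  have hyT : cg y T = T := by rw [hy, cg_mul, hc]
  have hyb : y • b = a := by
    rw [hy, mul_smul]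
    have : c • b = b := hcK'
    rw [this, ← hg, inv_smul_smul]
  have hyH : y ∉ H := by
    intro h
    have h1 : y • a = a := h
    exact hab (smul_left_cancel y (h1.trans hyb.symm))
  have hN : ∀ N : Subgroup G, N ≤ T → H ≤ normalizer (N : Set G) → cg y N = N → N = ⊥ := by
    intro N hN1 hN2 hN3
    exact hsup N hN2 ⟨y, hyH, mem_normalizer_of_cg hN3⟩ (hN1.trans hTH)
  by_cases hall : ∀ h ∈ H, cg h T = T
  · left
    have h1 : T = ⊥ := hN T le_rfl (fun h hh => mem_normalizer_of_cg (hall h hh)) hyT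
    rw [← hcH, h1, card_bot, one_mul]
  · right
    push Not at hall
    obtain ⟨h, hh, hhT⟩ := hall
    have hCle : C ≤ T ⊓ cg h T := le_inf hC1 (hC4 h hh)
    have hcT : Nat.card T = 2 * Nat.card C := by
      rcases hC3 with h1 | h1
      · exfalso
        apply hhT
        have h2 := Subgroup.eq_of_le_of_card_ge hC1 h1.le
        apply (Subgroup.eq_of_le_of_card_ge _ _).symm
        · exact h2.ge.trans (hC4 h hh)
        · rw [cg_card]
      · exact h1
    have hQC : T ⊓ cg h T = C := by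
      apply (Subgroup.eq_of_le_of_card_ge hCle _).symm
      have h1 : Nat.card ↥(T ⊓ cg h T) ∣ Nat.card T := card_dvd_of_le inf_le_left
      have h2 : Nat.card C ∣ Nat.card ↥(T ⊓ cg h T) := card_dvd_of_le hCle
      obtain ⟨d, hd⟩ := h2
      have hd0 : d ∣ 2 := by
        rw [hd, hcT, mul_comm 2] at h1
        exact Nat.dvd_of_mul_dvd_mul_left Nat.card_pos h1
      rcases (Nat.dvd_prime Nat.prime_two).1 hd0 with h3 | h3
      · rw [hd, h3, mul_one]
      · exfalso
        rw [h3] at hd
        apply hhT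
        have h4 : T ⊓ cg h T = T := Subgroup.eq_of_le_of_card_ge inf_le_left (by rw [hd, hcT, mul_comm])
        apply (Subgroup.eq_of_le_of_card_ge (inf_eq_left.1 h4) _).symm
        rw [cg_card]
    have hQi : (T ⊓ cg h T).relIndex T = 2 := by
      have h1 := Cfsg.Agent.H11.card_mul_relIndex (inf_le_left : T ⊓ cg h T ≤ T)
      rw [hQC, hcT, mul_comm] at h1
      rw [hQC]
      exact Nat.eq_of_mul_eq_mul_right Nat.card_pos h1
    have hThH : cg h T ≤ H := by
      have h1 : cg h H = H := cg_of_mem (le_normalizer hh)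
      rw [← h1]; exact cg_mono hTH
    have hgen : T ⊔ cg h T = H := by
      apply Subgroup.eq_of_le_of_card_ge (sup_le hTH hThH)
      have h1 := Cfsg.Agent.H11.card_mul_relIndex (le_sup_left : T ≤ T ⊔ cg h T)
      have h2 : Nat.card ↥(T ⊔ cg h T) ∣ Nat.card H := card_dvd_of_le (sup_le hTH hThH)
      rw [← h1, ← hcH] at h2
      have h4 := Nat.dvd_of_mul_dvd_mul_left Nat.card_pos h2
      rcases (Nat.dvd_prime Nat.prime_three).1 h4 with h5 | h5
      · exfalso
        rw [h5, mul_one] at h1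
        apply hhT
        have h6 := Subgroup.eq_of_le_of_card_ge (le_sup_left : T ≤ T ⊔ cg h T) h1.ge
        apply Subgroup.eq_of_le_of_card_ge _ (by rw [cg_card])
        exact (le_sup_right : cg h T ≤ T ⊔ cg h T).trans h6.ge
      · rw [← h1, h5, hcH]
    obtain ⟨x, t, ht1, ht4, hGS, hST, hSH, hSQ, hZ⟩ := core_setup hh hyT hgen (by rw [hQC]; exact hC2) hQi hN (by
      intro E hE1 hE2 hE3
      have h1 : ¬ cg (y * h) H ≤ H := by
        intro hle
        apply hKH'
        have h2 : cg y H ≤ H := by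
          have h3 := cg_mono (g := h⁻¹) hle
          have h4 : cg h⁻¹ H = H := cg_of_mem (le_normalizer (inv_mem hh))
          rwa [cg_mul, cg_inv_cg, h4] at h3
        intro z hz
        apply h2
        rw [mem_cg]
        change (y * z * y⁻¹) • a = a
        have hz' : z • b = b := hz
        rw [← hyb, mul_smul, mul_smul, inv_smul_smul, hz']
      obtain ⟨z, hz1, hz2⟩ := SetLike.not_le_iff_exists.1 h1
      exact hsup E hE2 ⟨z, hz2, hE3 hz1⟩ (hE1.trans hTH))
    refine ⟨_, x, t, ht1, ht4, hGS, hSH, ?_, hZ⟩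
    have h1 := card_Sg hGS (a := 0) (b := t) (by omega) (by omega)
    rw [hST, Nat.sub_zero] at h1
    rw [← hcH, h1, mul_comm]

end Cfsg.Agent.H20.GIso
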