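import Mathlib
import Cfsg.Agent.H20.GIsoD
import Cfsg.Prelude.Def_CaseTheorems

/-!
Structure of `Sg 0 (t+1)`: general lemmas (S3685, S4385). Owner: helper20.
-/

set_option autoImplicit false
set_option maxHeartbeats 800000

namespace Cfsg.Agent.H20.GIso

open Subgroup

theorem inv_norm {G : Type*} [Group G] [Finite G] {a r : G} (h : a * r * a⁻¹ = r⁻¹) :
    a ∈ normalizer ((zpowers r : Subgroup G) : Set G) := by
  apply mem_normalizer_fintype
  intro n hn
  obtain ⟨k, rfl⟩ := mem_zpowers_iff.1 hn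
  refine mem_zpowers_iff.2 ⟨-k, ?_⟩
  rw [← conj_zpow, h, inv_zpow, zpow_neg]

theorem card_sup_dvd {G : Type*} [Group G] [Finite G] {A B : Subgroup G} (h : A ≤ normalizer (B : Set G)) :
    Nat.card ↥(A ⊔ B) ∣ Nat.card A * Nat.card B := ⟨_, (Cfsg.Agent.H11.card_sup_mul_card_inf h).symm⟩

theorem two_inv {L : Type*} [Group L] [Finite L] {a b : L} (ha : a * a = 1) (hb : b * b = 1) (ha1 : a ≠ 1)
    (hb1 : b ≠ 1) (hgen : ∀ M : Subgroup L, a ∈ M → b ∈ M → M = ⊤) {n : ℕ} (hn : Odd n)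
    (hL : Nat.card L = n * 2) : (a * b) ^ n = 1 := by
  have hai : a⁻¹ = a := inv_eq_of_mul_eq_one_left ha
  have hbi : b⁻¹ = b := inv_eq_of_mul_eq_one_left hb
  have hinv : a * (a * b) * a⁻¹ = (a * b)⁻¹ := by
    rw [mul_inv_rev, hai, hbi, ← mul_assoc, ha, one_mul]
  have h1 : zpowers a ≤ normalizer ((zpowers (a * b) : Subgroup L) : Set L) := by
    rw [zpowers_le]; exact inv_norm hinv
  have h2 : zpowers a ⊔ zpowers (a * b) = ⊤ := by
    apply hgen
    · exact mem_sup_left (mem_zpowers a)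
    · have hb' : b = a⁻¹ * (a * b) := by group
      have hm : a⁻¹ * (a * b) ∈ zpowers a ⊔ zpowers (a * b) :=
        mul_mem (inv_mem (mem_sup_left (mem_zpowers a))) (mem_sup_right (mem_zpowers _))
      rwa [← hb'] at hm
  have h3 := card_sup_dvd h1
  have ha2 : orderOf a = 2 := orderOf_eq_prime (by rw [pow_two, ha]) ha1
  rw [h2, card_top, hL, Nat.card_zpowers, Nat.card_zpowers, ha2, mul_comm] at h3
  have h4 : n ∣ orderOf (a * b) := Nat.dvd_of_mul_dvd_mul_left (by norm_num) h3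
  obtain ⟨k, hk⟩ := h4
  have h5 : orderOf (a * b) ∣ n * 2 := by rw [← hL]; exact orderOf_dvd_natCard _
  rw [hk] at h5
  have h6 : k ∣ 2 := Nat.dvd_of_mul_dvd_mul_left hn.pos h5
  rcases (Nat.dvd_prime Nat.prime_two).1 h6 with h7 | h7
  · rw [h7, mul_one] at hk
    rw [← hk]; exact pow_orderOf_eq_one _
  · exfalso
    rw [h7, ← hL] at hk
    have h8 : zpowers (a * b) = ⊤ := by
      apply Subgroup.eq_top_of_card_eq
      rw [Nat.card_zpowers, hk]
    have h9 : Commute a (a * b) := by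
      have : a ∈ zpowers (a * b) := by rw [h8]; exact mem_top a
      obtain ⟨j, hj⟩ := mem_zpowers_iff.1 this
      have hcj : Commute ((a * b) ^ j) (a * b) := (Commute.refl (a * b)).zpow_left j
      rwa [hj] at hcj
    have h10 : (a * b) * (a * b) = 1 := by
      rw [h9.eq, mul_inv_cancel_right] at hinv
      rw [← mul_inv_cancel (a * b), ← hinv]
    have h11 : orderOf (a * b) ∣ 2 := orderOf_dvd_of_pow_eq_one (by rw [pow_two, h10])
    rw [hk, hL] at h11
    have h12 : n ∣ 1 := Nat.dvd_of_mul_dvd_mul_right (by norm_num : 0 < 2) (by rwa [one_mul])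
    have h13 : n = 1 := Nat.dvd_one.1 h12
    rw [h13] at hL
    have h14 : zpowers a = ⊤ := Subgroup.eq_top_of_card_eq _ (by rw [Nat.card_zpowers, ha2, hL])
    have h15 : b ∈ zpowers a := by rw [h14]; exact mem_top b
    obtain ⟨j, hj⟩ := mem_zpowers_iff.1 h15
    have h16 : b = 1 ∨ b = a := by
      rcases Int.even_or_odd' j with ⟨i, rfl | rfl⟩
      · left; rw [← hj, zpow_mul, zpow_two, ha, one_zpow]
      · right; rw [← hj, zpow_add, zpow_mul, zpow_two, ha, one_zpow, one_mul, zpow_one]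
    rcases h16 with h16 | h16
    · exact hb1 h16
    · rw [h16, ha, orderOf_one, hL] at hk
      omega

theorem mem_of_coprime {G : Type*} [Group G] {K : Subgroup G} {r : G} {a b : ℕ} (h1 : r ^ a ∈ K) (h2 : r ^ b ∈ K)
    (hc : Nat.Coprime a b) : r ∈ K := by
  have h3 := Nat.gcd_eq_gcd_ab a b
  rw [hc.gcd_eq_one, Nat.cast_one] at h3
  have h4 : r = (r ^ a) ^ (Nat.gcdA a b) * (r ^ b) ^ (Nat.gcdB a b) := by
    rw [← zpow_natCast r a, ← zpow_natCast r b, ← zpow_mul, ← zpow_mul, ← zpow_add, ← h3, zpow_one]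
  rw [h4]
  exact mul_mem (zpow_mem h1 _) (zpow_mem h2 _)

/-- action on four points -/
theorem perm4 {L : Type*} [Group L] [Finite L] (D : Subgroup L) (hD : D.index = 4) :
    ∃ f : L →* Equiv.Perm (Fin 4), f.ker = D.normalCore ∧ (D.normalCore.index = 24 → Function.Surjective f) := by
  have hc : Nat.card (L ⧸ D) = 4 := hD
  haveI : Finite (L ⧸ D) := Nat.finite_of_card_ne_zero (by rw [hc]; norm_num)
  let e : L ⧸ D ≃ Fin 4 := Finite.equivFinOfCardEq hc
  let f : L →* Equiv.Perm (Fin 4) := e.permCongrHom.toMonoidHom.comp (MulAction.toPermHom L (L ⧸ D))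
  have hker : f.ker = D.normalCore := by
    rw [normalCore_eq_ker]
    ext x
    rw [MonoidHom.mem_ker, MonoidHom.mem_ker]
    change e.permCongrHom (MulAction.toPermHom L (L ⧸ D) x) = 1 ↔ _
    rw [map_eq_one_iff _ e.permCongrHom.injective]
  refine ⟨f, hker, ?_⟩
  intro hidx
  rw [← MonoidHom.range_eq_top]
  apply Subgroup.eq_top_of_card_eq
  rw [← index_ker, hker, hidx, Nat.card_perm, Nat.card_fin]
  rfl

theorem index_normalCore_dvd {L : Type*} [Group L] [Finite L] (D : Subgroup L) (hD : D.index = 4) :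
    D.normalCore.index ∣ 24 := by
  obtain ⟨f, hf, -⟩ := perm4 D hD
  rw [← hf, index_ker]
  have h1 := Subgroup.card_subgroup_dvd_card f.range
  rwa [Nat.card_perm, Nat.card_fin] at h1

/-- the core has index 24 -/
theorem fin4 {L : Type*} [Group L] [Finite L] {D T : Subgroup L} (hD : D.index = 4) {n j : ℕ} (hn : 0 < n)
    (hL : Nat.card L = n * 2 ^ (j + 3)) (hT : Nat.card T = 2 ^ (j + 3))
    (hKT : Nat.card ↥(D.normalCore ⊓ T) ∣ 2 ^ j) {r : L} (hr : r ^ 8 ∉ D.normalCore) : D.normalCore.index = 24 := by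
  have h1 : Nat.card ↥(T ⊔ D.normalCore) * Nat.card ↥(T ⊓ D.normalCore) = Nat.card T * Nat.card D.normalCore :=
    Cfsg.Agent.H11.card_sup_mul_card_inf (by
      rw [normalizer_eq_top]; exact le_top)
  rw [inf_comm, hT] at h1
  have h2 : 2 ^ (j + 3) * Nat.card D.normalCore ∣ (n * 2 ^ (j + 3)) * 2 ^ j := by
    rw [← h1, ← hL]
    exact mul_dvd_mul (card_subgroup_dvd_card _) hKT
  have h3 : Nat.card D.normalCore ∣ n * 2 ^ j := by
    rw [show (n * 2 ^ (j + 3)) * 2 ^ j = 2 ^ (j + 3) * (n * 2 ^ j) by ring] at h2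
    exact Nat.dvd_of_mul_dvd_mul_left (by positivity) h2
  obtain ⟨e, he⟩ := h3
  have h4 := D.normalCore.card_mul_index
  rw [hL, show n * 2 ^ (j + 3) = (n * 2 ^ j) * 8 by ring, he, mul_assoc] at h4
  have h5 := Nat.eq_of_mul_eq_mul_left Nat.card_pos h4
  have h6 := index_normalCore_dvd D hD
  rw [h5] at h6
  have h7 : e ∣ 3 := Nat.dvd_of_mul_dvd_mul_right (by norm_num : 0 < 8) h6
  rcases (Nat.dvd_prime Nat.prime_three).1 h7 with h8 | h8
  · exfalso
    rw [h8] at h5
    apply hr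
    have := Subgroup.pow_index_mem D.normalCore r
    rwa [h5] at this
  · rw [h5, h8]; norm_num

theorem odd_le {L : Type*} [Group L] [Finite L] {N D : Subgroup L} (hN : N.Normal) (ho : (Nat.card N).Coprime 2) {k : ℕ}
    (hD : D.index = 2 ^ k) : N ≤ D := by
  have h1 : Nat.card ↥(D ⊔ N) * Nat.card ↥(D ⊓ N) = Nat.card D * Nat.card N :=
    Cfsg.Agent.H11.card_sup_mul_card_inf (by
      rw [normalizer_eq_top]; exact le_top)
  have h2 := Cfsg.Agent.H11.card_mul_relIndex (le_sup_left : D ≤ D ⊔ N)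
  rw [← h2, mul_assoc] at h1
  have h3 := Nat.eq_of_mul_eq_mul_left Nat.card_pos h1
  have h4 : D.relIndex (D ⊔ N) ∣ 2 ^ k := by
    rw [← hD]
    exact ⟨_, (Subgroup.relIndex_mul_index (le_sup_left : D ≤ D ⊔ N)).symm⟩
  have h5 : (D.relIndex (D ⊔ N)).Coprime 2 := Nat.Coprime.coprime_dvd_left ⟨_, h3.symm⟩ ho
  have h6 : D.relIndex (D ⊔ N) = 1 := by
    apply Nat.eq_one_of_dvd_coprimes (h5.pow_right k) dvd_rfl h4
  have h7 : D ⊔ N ≤ D := relIndex_eq_one.1 h6
  exact le_sup_right.trans h7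

theorem oddCore_eq {L : Type*} [Group L] [Finite L] {K : Subgroup L} (hK : K.Normal) (ho : (Nat.card K).Coprime 2)
    (h : ∀ N : Subgroup L, N.Normal → (Nat.card N).Coprime 2 → N ≤ K) : Cfsg.oddCore L = K := by
  apply le_antisymm
  · exact sSup_le fun N hN => h N hN.1 hN.2
  · exact le_sSup ⟨hK, ho⟩

variable {G : Type*} [Group G] [Finite G] {g x : G} {t : ℕ}

theorem Q_normal (h : GS g x 2 t) (ht : 1 ≤ t) : Sg g x 0 (t + 1) ≤ normalizer ((Sg g x 1 t : Subgroup G) : Set G) := by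
  haveI : Fact (Nat.Prime 2) := ⟨Nat.prime_two⟩
  have c1 := card_Sg h (a := 1) (b := t) (by omega) (by omega)
  have c2 := card_Sg h (a := 0) (b := t) (by omega) (by omega)
  have c3 := card_Sg h (a := 1) (b := t + 1) (by omega) (by omega)
  have h1 : Sg g x 0 t ≤ normalizer ((Sg g x 1 t : Subgroup G) : Set G) :=
    le_normalizer_of_card (p := 2) (Sg_mono g x (by omega) le_rfl) c1 (by rw [c2]; congr 1; omega)
  have h2 : Sg g x 1 (t + 1) ≤ normalizer ((Sg g x 1 t : Subgroup G) : Set G) :=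
    le_normalizer_of_card (p := 2) (Sg_mono g x le_rfl (by omega)) c1 (by rw [c3]; congr 1; omega)
  rw [← Sg_sup g x (a := 0) (b := 1) (c := t + 1) (by omega) (by omega)]
  exact sup_le ((Sg_mono g x le_rfl ht).trans h1) h2

theorem r_pow_mem (h : GS g x 2 t) (ht : 1 ≤ t) {n : ℕ} (hn : Odd n)
    (hcard : Nat.card (Sg g x 0 (t + 1)) = n * 2 ^ t) : (u g x 0 * u g x t) ^ n ∈ Sg g x 1 t := by
  have hQH : Sg g x 1 t ≤ Sg g x 0 (t + 1) := Sg_mono g x (by omega) (by omega)
  have hQn := Q_normal h ht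
  haveI hN : ((Sg g x 1 t).subgroupOf (Sg g x 0 (t + 1))).Normal := (normal_subgroupOf_iff_le_normalizer hQH).2 hQn
  have m0 : u g x 0 ∈ Sg g x 0 (t + 1) := mem_Sg g x le_rfl (by omega)
  have mt : u g x t ∈ Sg g x 0 (t + 1) := mem_Sg g x (by omega) (by omega)
  have c1 := card_Sg h (a := 1) (b := t) (by omega) (by omega)
  have c2 := card_Sg h (a := 0) (b := t) (by omega) (by omega)
  have c3 := card_Sg h (a := 1) (b := t + 1) (by omega) (by omega)
  have hpow : 2 ^ (t - 1) < 2 ^ t := Nat.pow_lt_pow_right (by norm_num) (by omega)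
  have n0 : u g x 0 ∉ Sg g x 1 t := by
    intro hm
    have : Sg g x 0 t ≤ Sg g x 1 t := by
      rw [← Sg_sup g x (a := 0) (b := 1) (c := t) (by omega) ht]
      apply sup_le _ le_rfl
      rw [Sg_single, zpowers_le]; exact hm
    have := card_le_of_le this
    rw [c1, c2] at this
    simp only [Nat.sub_zero] at this
    omega
  have nt : u g x t ∉ Sg g x 1 t := by
    intro hm
    have : Sg g x 1 (t + 1) ≤ Sg g x 1 t := by
      rw [← Sg_sup g x (a := 1) (b := t) (c := t + 1) (by omega) (by omega)]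
      apply sup_le le_rfl
      rw [Sg_single, zpowers_le]; exact hm
    have := card_le_of_le this
    rw [c1, c3] at this
    rw [show t + 1 - 1 = t by omega] at this
    omega
  set Q' := (Sg g x 1 t).subgroupOf (Sg g x 0 (t + 1)) with hQ'
  set a : Sg g x 0 (t + 1) := ⟨u g x 0, m0⟩ with ha
  set b : Sg g x 0 (t + 1) := ⟨u g x t, mt⟩ with hb
  have key := two_inv (L := ↥(Sg g x 0 (t + 1)) ⧸ Q') (a := QuotientGroup.mk a) (b := QuotientGroup.mk b)
    (by rw [← QuotientGroup.mk_mul, QuotientGroup.eq_one_iff]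
        rw [hQ', mem_subgroupOf]
        change u g x 0 * u g x 0 ∈ _
        rw [u_sq h ht]; exact one_mem _)
    (by rw [← QuotientGroup.mk_mul, QuotientGroup.eq_one_iff]
        rw [hQ', mem_subgroupOf]
        change u g x t * u g x t ∈ _
        rw [u_sq h ht]; exact one_mem _)
    (by rw [ne_eq, QuotientGroup.eq_one_iff, hQ', mem_subgroupOf]; exact n0)
    (by rw [ne_eq, QuotientGroup.eq_one_iff, hQ', mem_subgroupOf]; exact nt)
    (by
      intro M hM1 hM2
      have h1 : Sg g x 0 (t + 1) ≤ (M.comap (QuotientGroup.mk' Q')).map (Sg g x 0 (t + 1)).subtype := by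
        conv_lhs => rw [Sg]
        rw [closure_le]
        rintro y ⟨i, -, hi, rfl⟩
        have hmi : u g x i ∈ Sg g x 0 (t + 1) := mem_Sg g x (by omega) hi
        refine ⟨⟨u g x i, hmi⟩, ?_, rfl⟩
        change (QuotientGroup.mk (⟨u g x i, hmi⟩ : Sg g x 0 (t + 1)) : _ ⧸ Q') ∈ M
        by_cases hi0 : i = 0
        · subst hi0; exact hM1
        · by_cases hit : i = t
          · subst hit; exact hM2
          · have : (QuotientGroup.mk (⟨u g x i, hmi⟩ : Sg g x 0 (t + 1)) : _ ⧸ Q') = 1 := by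
              rw [QuotientGroup.eq_one_iff, hQ', mem_subgroupOf]
              exact mem_Sg g x (by omega) (by omega)
            rw [this]; exact one_mem _
      rw [eq_top_iff]
      intro z _
      obtain ⟨y, rfl⟩ := QuotientGroup.mk_surjective z
      obtain ⟨y', hy', hyy⟩ := h1 y.2
      have : y' = y := Subtype.ext hyy
      rw [← this]; exact hy')
    hn
    (by
      have h1 := Q'.card_mul_index
      rw [hQ', Nat.card_congr (subgroupOfEquivOfLe hQH).toEquiv, c1, hcard] at h1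
      have h2 : 2 ^ t = 2 ^ (t - 1) * 2 := by rw [← pow_succ]; congr 1; omega
      rw [h2, show n * (2 ^ (t - 1) * 2) = 2 ^ (t - 1) * (n * 2) by ring] at h1
      exact Nat.eq_of_mul_eq_mul_left (by positivity) h1)
  rw [← QuotientGroup.mk_mul, ← QuotientGroup.mk_pow, QuotientGroup.eq_one_iff, hQ', mem_subgroupOf] at key
  exact key

end Cfsg.Agent.H20.GIso
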