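import Mathlib
import Cfsg.Agent.H20.GIsoH

/-!
Structure of `Sg 0 (t+1)` for `t = 3` (S3685, S4385). Owner: helper20.
-/

set_option autoImplicit false
set_option maxHeartbeats 800000

namespace Cfsg.Agent.H20.GIso

open Subgroup

variable {G : Type*} [Group G] [Finite G] {g x : G} {t : ℕ}

theorem u_ne_succ (h : GS g x 2 t) (ht : 2 ≤ t) (i : ℕ) : u g x i ≠ u g x (i + 1) := by
  intro he
  have h1 := card_Sg h (a := i) (b := i + 2) (by omega) (by omega)
  have h2 := card_Sg h (a := i) (b := i + 1) (by omega) (by omega)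
  have h3 : Sg g x i (i + 2) ≤ Sg g x i (i + 1) := by
    rw [← Sg_sup g x (a := i) (b := i + 1) (c := i + 2) (by omega) (by omega)]
    apply sup_le le_rfl
    rw [Sg_single, Sg_single, he]
  have := card_le_of_le h3
  rw [h1, h2, show i + 2 - i = 2 by omega, show i + 1 - i = 1 by omega] at this
  omega

theorem u_ne_ssucc (h : GS g x 2 t) (ht : 3 ≤ t) (i : ℕ) : u g x i ≠ u g x (i + 2) := by
  intro he
  have h1 := card_Sg h (a := i) (b := i + 3) (by omega) (by omega)
  have h2 := card_Sg h (a := i) (b := i + 2) (by omega) (by omega)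
  have h3 : Sg g x i (i + 3) ≤ Sg g x i (i + 2) := by
    rw [← Sg_sup g x (a := i) (b := i + 2) (c := i + 3) (by omega) (by omega)]
    apply sup_le le_rfl
    rw [Sg_single, ← he, zpowers_le]
    exact mem_Sg g x le_rfl (by omega)
  have := card_le_of_le h3
  rw [h1, h2, show i + 3 - i = 3 by omega, show i + 2 - i = 2 by omega] at this
  omega

theorem T_dec (h : GS g x 2 t) (ht : 1 ≤ t) {z : G} (hz : z ∈ Sg g x 0 t) :
    ∃ v ∈ Sg g x 1 t, z = v ∨ z = u g x 0 * v := by
  have hn : Sg g x 0 1 ≤ normalizer ((Sg g x 1 t : Subgroup G) : Set G) :=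
    (Sg_mono g x le_rfl (by omega)).trans (Q_normal h ht)
  rw [← Sg_sup g x (by omega : 0 ≤ 1) ht] at hz
  obtain ⟨c, hc, v, hv, rfl⟩ := (Cfsg.Agent.H11.mem_sup_of_le_normalizer hn).1 hz
  refine ⟨v, hv, ?_⟩
  rcases mem_single h ht hc with rfl | rfl
  · left; rw [one_mul]
  · right; rfl

/-- elements of `Q` centralised by `u₀` and `u_t` when `s = t - 1` -/
theorem cent_Q (h : GS g x 2 t) (ht : 3 ≤ t) (hC : ∀ k < t - 1, Commute (u g x 0) (u g x k))
    (hnC : ¬ Commute (u g x 0) (u g x (t - 1))) {z : G} (hz : z ∈ Sg g x 1 t) (h0 : Commute (u g x 0) z)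
    (h1 : Commute (u g x t) z) : z ∈ Sg g x 2 (t - 1) := by
  have e1 : z ∈ Sg g x 1 (t - 1) := by
    have hz' : z ∈ Sg g x 1 (t - 1 + 1) := by rwa [show t - 1 + 1 = t by omega]
    obtain ⟨v, hv, hzv | hzv⟩ := seg_right h (by omega) hC (a := 1) (b := t - 1) (by omega) (by omega) hz'
    · rw [hzv]; exact hv
    · exfalso
      apply hnC
      have hv0 : Commute (u g x 0) v := commute_seg hC (a := 0) (b := 1) (c := 1) (d := t - 1)
        (fun i j h1 h2 h3 h4 => by omega) (mem_Sg g x le_rfl (by omega)) hv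
      have : u g x (t - 1) = v⁻¹ * z := by rw [hzv]; group
      rw [this]
      exact hv0.inv_right.mul_right h0
  have e2 : z ∈ Sg g x 2 t := by
    obtain ⟨v, hv, hzv | hzv⟩ := seg_left h (by omega) hC (a := 1) (b := t) (by omega) (by omega) hz
    · rw [hzv]; exact hv
    · exfalso
      have hnt := not_commute_of hnC 1
      rw [show 1 + (t - 1) = t by omega] at hnt
      apply hnt
      have hv0 : Commute (u g x t) v := commute_seg hC (a := t) (b := t + 1) (c := 2) (d := t)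
        (fun i j h1 h2 h3 h4 => by omega) (mem_Sg g x le_rfl (by omega)) hv
      have : u g x 1 = z * v⁻¹ := by rw [hzv]; group
      rw [this]
      exact (h1.mul_right hv0.inv_right).symm
  have := inf_seg h (a := 1) (b := t - 1) (by omega) (by omega)
  rw [show t - 1 + 1 = t by omega] at this
  rw [← this]
  exact mem_inf.2 ⟨e1, e2⟩

/-- `r ^ n` is centralised by `u₀` and `u_t` -/
theorem rn_comm (h : GS g x 2 t) (ht : 1 ≤ t) {z : G} (hzz : z * z = 1) {n : ℕ}
    (hz : z = (u g x 0 * u g x t) ^ n) : Commute (u g x 0) z ∧ Commute (u g x t) z := by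
  have hinv : u g x 0 * (u g x 0 * u g x t) * (u g x 0)⁻¹ = (u g x 0 * u g x t)⁻¹ := by
    rw [mul_inv_rev, u_inv h ht, u_inv h ht, ← mul_assoc, u_sq h ht, one_mul]
  have h0 : Commute (u g x 0) z := by
    have h1 : u g x 0 * z * (u g x 0)⁻¹ = z := by
      rw [hz, ← conj_pow, hinv, inv_pow, ← hz]
      exact inv_eq_of_mul_eq_one_left hzz
    calc u g x 0 * z = u g x 0 * z * (u g x 0)⁻¹ * u g x 0 := by group
      _ = z * u g x 0 := by rw [h1]
  refine ⟨h0, ?_⟩
  have hr : Commute (u g x 0 * u g x t) z := by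
    rw [hz]; exact (Commute.refl _).pow_right n
  have : u g x t = (u g x 0)⁻¹ * (u g x 0 * u g x t) := by group
  rw [this]
  exact h0.inv_left.mul_left hr

theorem dih_card {a ρ : G} (ha : a * a = 1) {n : ℕ} (hρ : ρ ^ n = 1) (hinv : a * ρ * a⁻¹ = ρ⁻¹) :
    Nat.card ↥(zpowers a ⊔ zpowers ρ) ∣ 2 * n := by
  have h1 : zpowers a ≤ normalizer ((zpowers ρ : Subgroup G) : Set G) := by
    rw [zpowers_le]; exact inv_norm hinv
  refine (card_sup_dvd h1).trans (mul_dvd_mul ?_ ?_)
  · rw [Nat.card_zpowers]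
    exact orderOf_dvd_of_pow_eq_one (by rw [pow_two, ha])
  · rw [Nat.card_zpowers]
    exact orderOf_dvd_of_pow_eq_one hρ

/-- the case `t = 3` -/
theorem struct3 (h : GS g x 2 3) (hC : ∀ k < 2, Commute (u g x 0) (u g x k))
    (h02 : u g x 0 * u g x 2 * u g x 0 * u g x 2 = u g x 1) {n : ℕ} (hn : Odd n)
    (hcard : Nat.card (Sg g x 0 4) = n * 8) :
    ∃ f : ↥(Sg g x 0 4) →* Equiv.Perm (Fin 4), Function.Surjective f ∧ (Nat.card f.ker).Coprime 2 ∧
      ∀ N : Subgroup ↥(Sg g x 0 4), N.Normal → (Nat.card N).Coprime 2 → N ≤ f.ker := by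
  have ht : 1 ≤ 3 := by norm_num
  have sq := u_sq h ht
  have iv := u_inv h ht
  have ne1 := u_ne h ht
  have nes := u_ne_succ h (by norm_num)
  have c01 : Commute (u g x 0) (u g x 1) := hC 1 (by norm_num)
  have c12 : Commute (u g x 1) (u g x 2) := commute_of hC (by norm_num) (by norm_num)
  have c23 : Commute (u g x 2) (u g x 3) := commute_of hC (by norm_num) (by norm_num)
  have hnC : ¬ Commute (u g x 0) (u g x 2) := by
    intro hc
    apply ne1 1
    rw [← h02, hc.eq, mul_assoc (u g x 2), sq, mul_one, sq]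
  have h13 : u g x 1 * u g x 3 * u g x 1 * u g x 3 = u g x 2 := by
    have e0 := u_add g x 0 1
    have e2 := u_add g x 2 1
    have e1 := u_add g x 1 1
    rw [show 0 + 1 = 1 from rfl] at e0
    rw [show 2 + 1 = 3 from rfl] at e2
    rw [show 1 + 1 = 2 from rfl] at e1
    calc u g x 1 * u g x 3 * u g x 1 * u g x 3
        = (g ^ 1)⁻¹ * (u g x 0 * u g x 2 * u g x 0 * u g x 2) * g ^ 1 := by rw [e0, e2]; group
      _ = u g x 2 := by rw [h02, ← e1]
  set r := u g x 0 * u g x 3 with hr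
  have hri : r⁻¹ = u g x 3 * u g x 0 := by rw [hr, mul_inv_rev, iv, iv]
  have hinv : u g x 0 * r * (u g x 0)⁻¹ = r⁻¹ := by
    rw [hri, hr, iv, ← mul_assoc, sq, one_mul]
  have a02 : u g x 0 * u g x 2 = u g x 1 * u g x 2 * u g x 0 := by
    calc u g x 0 * u g x 2 = (u g x 0 * u g x 2 * u g x 0 * u g x 2) * (u g x 2)⁻¹ * (u g x 0)⁻¹ := by group
      _ = _ := by rw [h02, iv, iv]
  have a31 : u g x 3 * u g x 1 = u g x 1 * u g x 2 * u g x 3 := by
    calc u g x 3 * u g x 1 = (u g x 1)⁻¹ * (u g x 1 * u g x 3 * u g x 1 * u g x 3) * (u g x 3)⁻¹ := by group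
      _ = _ := by rw [h13, iv, iv]
  have r1 : r * u g x 1 = u g x 2 * r := by
    calc r * u g x 1 = u g x 0 * (u g x 3 * u g x 1) := by rw [hr]; group
      _ = (u g x 0 * u g x 1) * u g x 2 * u g x 3 := by rw [a31]; group
      _ = u g x 1 * (u g x 0 * u g x 2) * u g x 3 := by rw [c01.eq]; group
      _ = (u g x 1 * u g x 1) * u g x 2 * (u g x 0 * u g x 3) := by rw [a02]; group
      _ = u g x 2 * r := by rw [sq, one_mul]
  have r2 : r * u g x 2 = u g x 1 * u g x 2 * r := by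
    calc r * u g x 2 = u g x 0 * (u g x 3 * u g x 2) := by rw [hr]; group
      _ = (u g x 0 * u g x 2) * u g x 3 := by rw [← c23.eq]; group
      _ = u g x 1 * u g x 2 * r := by rw [a02, hr]; group
  have r3 : Commute (r ^ 3) (u g x 1) := by
    have p3 : r ^ 3 = r * r * r := by rw [pow_succ, pow_two]
    change r ^ 3 * u g x 1 = u g x 1 * r ^ 3
    rw [p3]
    calc r * r * r * u g x 1 = r * r * (r * u g x 1) := by group
      _ = r * (r * u g x 2) * r := by rw [r1]; group
      _ = (r * u g x 1) * u g x 2 * r * r := by rw [r2]; group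
      _ = u g x 2 * (r * u g x 2) * r * r := by rw [r1]; group
      _ = (u g x 2 * u g x 1) * u g x 2 * r * r * r := by rw [r2]; group
      _ = u g x 1 * (u g x 2 * u g x 2) * r * r * r := by rw [← c12.eq]; group
      _ = u g x 1 * (r * r * r) := by rw [sq]; group
  have hQn := Q_normal h ht
  have hrn := r_pow_mem h ht hn hcard
  rw [← hr] at hrn
  have hrn1 : r ^ n = 1 := by
    have hzz := seg_sq h ht hC (a := 1) (b := 3) (by norm_num) hrn
    obtain ⟨q0, q3⟩ := rn_comm h ht hzz (n := n) rfl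
    have := cent_Q h (by norm_num) hC hnC hrn q0 q3
    rw [Sg_bot g x (by norm_num)] at this
    exact mem_bot.1 this
  have m0 : u g x 0 ∈ Sg g x 0 4 := mem_Sg g x le_rfl (by norm_num)
  have m3 : u g x 3 ∈ Sg g x 0 4 := mem_Sg g x (by norm_num) (by norm_num)
  have mr : r ∈ Sg g x 0 4 := mul_mem m0 m3
  set D := zpowers (u g x 0) ⊔ zpowers r with hD
  have d0 : u g x 0 ∈ D := mem_sup_left (mem_zpowers _)
  have dr : r ∈ D := mem_sup_right (mem_zpowers _)
  have d3 : u g x 3 ∈ D := by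
    have : u g x 3 = (u g x 0)⁻¹ * r := by rw [hr]; group
    rw [this]; exact mul_mem (inv_mem d0) dr
  have hDH : D ≤ Sg g x 0 4 := sup_le (by rw [zpowers_le]; exact m0) (by rw [zpowers_le]; exact mr)
  have hQH : Sg g x 1 3 ≤ Sg g x 0 4 := Sg_mono g x (by norm_num) (by norm_num)
  have cD : Nat.card D ∣ 2 * n := dih_card (sq 0) hrn1 hinv
  have cQ : Nat.card (Sg g x 1 3) = 4 := by
    rw [card_Sg h (by norm_num) (by norm_num)]; norm_num
  have hDQ : D ⊔ Sg g x 1 3 = Sg g x 0 4 := by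
    apply le_antisymm (sup_le hDH hQH)
    conv_lhs => rw [Sg]
    rw [closure_le]
    rintro y ⟨i, -, hi, rfl⟩
    interval_cases i
    · exact mem_sup_left d0
    · exact mem_sup_right (mem_Sg g x (by norm_num) (by norm_num))
    · exact mem_sup_right (mem_Sg g x (by norm_num) (by norm_num))
    · exact mem_sup_left d3
  have hc1 := Cfsg.Agent.H11.card_sup_mul_card_inf (hDH.trans hQn)
  rw [hDQ, hcard, cQ] at hc1
  have hnp : 0 < n := hn.pos
  have hc2 : Nat.card D = 2 * n * Nat.card ↥(D ⊓ Sg g x 1 3) := by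
    have : Nat.card D * 4 = (2 * n * Nat.card ↥(D ⊓ Sg g x 1 3)) * 4 := by rw [← hc1]; ring
    exact Nat.eq_of_mul_eq_mul_right (by norm_num) this
  have hc3 : Nat.card ↥(D ⊓ Sg g x 1 3) = 1 := by
    rw [hc2] at cD
    have : Nat.card ↥(D ⊓ Sg g x 1 3) ∣ 1 :=
      Nat.dvd_of_mul_dvd_mul_left (by positivity : 0 < 2 * n) (by rwa [mul_one])
    exact Nat.dvd_one.1 this
  rw [hc3, mul_one] at hc2
  have hDQ1 : D ⊓ Sg g x 1 3 = ⊥ := eq_bot_of_card_eq _ hc3
  have hidx : (D.subgroupOf (Sg g x 0 4)).index = 4 := by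
    have h1 := Cfsg.Agent.H11.card_mul_relIndex hDH
    rw [hc2, hcard, show n * 8 = 2 * n * 4 by ring] at h1
    exact Nat.eq_of_mul_eq_mul_left (by positivity) h1
  set K := (D.subgroupOf (Sg g x 0 4)).normalCore with hK
  have hKn : K.Normal := normalCore_normal _
  -- commutators of `K` and `Q` are trivial
  have hKQ : ∀ z : ↥(Sg g x 0 4), z ∈ K → ∀ q ∈ Sg g x 1 3, Commute (z : G) q := by
    intro z hz q hq
    have h1 : z * ⟨q, hQH hq⟩ * z⁻¹ * (⟨q, hQH hq⟩ : ↥(Sg g x 0 4))⁻¹ ∈ K := by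
      have := mul_mem hz (hKn.conj_mem _ (inv_mem hz) ⟨q, hQH hq⟩)
      rwa [← mul_assoc, ← mul_assoc] at this
    have h2 : (z : G) * q * (z : G)⁻¹ * q⁻¹ ∈ D := normalCore_le (D.subgroupOf (Sg g x 0 4)) h1
    have h3 : (z : G) * q * (z : G)⁻¹ * q⁻¹ ∈ Sg g x 1 3 :=
      mul_mem ((mem_normalizer_iff.1 (hQn z.2) q).1 hq) (inv_mem hq)
    have h4 : (z : G) * q * (z : G)⁻¹ * q⁻¹ = 1 := by
      rw [← mem_bot, ← hDQ1]; exact mem_inf.2 ⟨h2, h3⟩
    change (z : G) * q = q * z
    calc (z : G) * q = ((z : G) * q * (z : G)⁻¹ * q⁻¹) * q * z := by group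
      _ = q * z := by rw [h4, one_mul]
  have q1 : u g x 1 ∈ Sg g x 1 3 := mem_Sg g x (by norm_num) (by norm_num)
  have q2 : u g x 2 ∈ Sg g x 1 3 := mem_Sg g x (by norm_num) (by norm_num)
  have hTH : Sg g x 0 3 ≤ Sg g x 0 4 := Sg_mono g x le_rfl (by norm_num)
  have hfin := fin4 (T := (Sg g x 0 3).subgroupOf (Sg g x 0 4)) hidx (n := n) (j := 0) hnp
    (by rw [hcard]; norm_num)
    (by rw [Nat.card_congr (subgroupOfEquivOfLe hTH).toEquiv, card_Sg h (by norm_num) (by norm_num)])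
    (by
      have : (D.subgroupOf (Sg g x 0 4)).normalCore ⊓ (Sg g x 0 3).subgroupOf (Sg g x 0 4) = ⊥ := by
        rw [eq_bot_iff]
        intro z hz
        obtain ⟨hz1, hz2⟩ := mem_inf.1 hz
        obtain ⟨v, hv, hzv | hzv⟩ := T_dec h ht (show (z : G) ∈ Sg g x 0 3 from hz2)
        · have h1 : (z : G) ∈ D ⊓ Sg g x 1 3 :=
            mem_inf.2 ⟨normalCore_le (D.subgroupOf (Sg g x 0 4)) hz1, by rw [hzv]; exact hv⟩
          rw [hDQ1, mem_bot] at h1
          rw [mem_bot]
          exact Subtype.ext h1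
        · exfalso
          apply hnC
          have h1 := hKQ z hz1 _ q2
          have h2 : Commute v (u g x 2) := commute_seg hC (a := 1) (b := 3) (c := 1) (d := 3)
            (fun i j h1 h2 h3 h4 => by omega) hv q2
          have h3 : u g x 0 = z * v⁻¹ := by rw [hzv]; group
          rw [h3]
          exact h1.mul_left h2.inv_left
      rw [this, card_bot, pow_zero])
    (r := ⟨r, mr⟩)
    (by
      intro hcon
      have h1 := hKQ _ hcon _ q1
      have h2 : r ^ 8 ∈ centralizer {u g x 1} := by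
        rw [mem_centralizer_singleton_iff]
        exact h1.eq
      have h3 : r ^ 3 ∈ centralizer {u g x 1} := by
        rw [mem_centralizer_singleton_iff]
        exact r3.eq
      have h4 := mem_of_coprime h3 h2 (by norm_num)
      rw [mem_centralizer_singleton_iff] at h4
      rw [r1] at h4
      exact nes 1 (mul_right_cancel h4).symm)
  obtain ⟨f, hf1, hf2⟩ := perm4 (D.subgroupOf (Sg g x 0 4)) hidx
  refine ⟨f, hf2 hfin, ?_, ?_⟩
  · rw [hf1]
    have h1 := K.card_mul_index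
    rw [hcard, hfin, show 24 = 3 * 8 by norm_num, ← mul_assoc] at h1
    have h2 := Nat.eq_of_mul_eq_mul_right (by norm_num : 0 < 8) h1
    exact Nat.Coprime.coprime_dvd_left ⟨3, h2.symm⟩ (Nat.coprime_two_right.2 hn)
  · intro N hN ho
    rw [hf1, normal_le_normalCore]
    exact odd_le hN ho (k := 2) (by rw [hidx]; norm_num)

end Cfsg.Agent.H20.GIso
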