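import Mathlib
import Cfsg.Agent.H20.GIsoI

/-!
Structure of `Sg 0 (t+1)` for `t = 4` (S3685, S4385). Owner: helper20.
-/

set_option autoImplicit false
set_option maxHeartbeats 800000

namespace Cfsg.Agent.H20.GIso

open Subgroup

theorem mem_norm_closure {G : Type*} [Group G] [Finite G] {S : Set G} {a : G}
    (h : ∀ x ∈ S, a * x * a⁻¹ ∈ closure S) : a ∈ normalizer ((closure S : Subgroup G) : Set G) := by
  apply mem_normalizer_fintype
  intro n hn
  have hn' : n ∈ closure S := hn
  change a * n * a⁻¹ ∈ closure S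
  induction hn' using Subgroup.closure_induction with
  | mem x hx => exact h x hx
  | one => simp
  | mul x y hx hy ihx ihy =>
    have : a * (x * y) * a⁻¹ = (a * x * a⁻¹) * (a * y * a⁻¹) := by group
    rw [this]; exact mul_mem (ihx hx) (ihy hy)
  | inv x hx ih =>
    have : a * x⁻¹ * a⁻¹ = (a * x * a⁻¹)⁻¹ := by group
    rw [this]; exact inv_mem (ih hx)

/-- combining an action on four points with a sign -/
theorem perm4C2 {L : Type*} [Group L] [Finite L] {D M : Subgroup L} (hD : D.index = 4)
    (hK : D.normalCore.index = 24) (hM : M.index = 2) (hKM : ¬ D.normalCore ≤ M) :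
    ∃ f : L →* Equiv.Perm (Fin 4) × Multiplicative (ZMod 2), Function.Surjective f ∧ f.ker = D.normalCore ⊓ M := by
  obtain ⟨f1, h1, -⟩ := perm4 D hD
  haveI hMn : M.Normal := Subgroup.normal_of_index_eq_two hM
  haveI : Fact (Nat.Prime 2) := ⟨Nat.prime_two⟩
  have c1 : Nat.card (L ⧸ M) = 2 := hM
  have c2 : Nat.card (Multiplicative (ZMod 2)) = 2 := by
    rw [Nat.card_congr Multiplicative.toAdd, Nat.card_zmod]
  let e : L ⧸ M ≃* Multiplicative (ZMod 2) := mulEquivOfPrimeCardEq c1 c2
  let f2 : L →* Multiplicative (ZMod 2) := e.toMonoidHom.comp (QuotientGroup.mk' M)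
  have h2 : f2.ker = M := by
    ext z
    rw [MonoidHom.mem_ker]
    change e (QuotientGroup.mk z) = 1 ↔ _
    rw [map_eq_one_iff _ e.injective, QuotientGroup.eq_one_iff]
  have hker : (f1.prod f2).ker = D.normalCore ⊓ M := by
    rw [← h1, ← h2]
    ext z
    rw [MonoidHom.mem_ker, mem_inf, MonoidHom.mem_ker, MonoidHom.mem_ker, MonoidHom.prod_apply, Prod.mk_eq_one]
  refine ⟨f1.prod f2, ?_, hker⟩
  have hidx : (D.normalCore ⊓ M).index = 48 := by
    rw [← Subgroup.relIndex_mul_index (inf_le_left : D.normalCore ⊓ M ≤ D.normalCore), hK]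
    have h3 : (D.normalCore ⊓ M).relIndex D.normalCore = M.relIndex D.normalCore := by
      rw [inf_comm]; exact inf_relIndex_right _ _
    have h4 : M.relIndex D.normalCore ∣ 2 := by
      rw [← hM]; exact relIndex_dvd_index_of_normal M D.normalCore
    rw [h3]
    rcases (Nat.dvd_prime Nat.prime_two).1 h4 with h5 | h5
    · exact absurd (relIndex_eq_one.1 h5) hKM
    · rw [h5]
  rw [← MonoidHom.range_eq_top]
  apply Subgroup.eq_top_of_card_eq
  rw [← index_ker, hker, hidx, Nat.card_prod, c2, Nat.card_perm, Nat.card_fin]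
  rfl

variable {G : Type*} [Group G] [Finite G] {g x : G}

/-- the case `t = 4`: the commutator -/
theorem comm4 (h : GS g x 2 4) (hC : ∀ k < 3, Commute (u g x 0) (u g x k))
    (hnC : ¬ Commute (u g x 0) (u g x 3)) (hmem : (u g x 0)⁻¹ * (u g x 3)⁻¹ * u g x 0 * u g x 3 ∈ Sg g x 1 3)
    {n : ℕ} (hn : Odd n) (hcard : Nat.card (Sg g x 0 5) = n * 16) :
    u g x 0 * u g x 3 * u g x 0 * u g x 3 = u g x 1 * u g x 2 := by
  have ht : 1 ≤ 4 := by norm_num
  have sq := u_sq h ht
  have iv := u_inv h ht
  have ne1 := u_ne h ht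
  have c01 : Commute (u g x 0) (u g x 1) := hC 1 (by norm_num)
  have c02 : Commute (u g x 0) (u g x 2) := hC 2 (by norm_num)
  have c12 : Commute (u g x 1) (u g x 2) := commute_of hC (by norm_num) (by norm_num)
  have c23 : Commute (u g x 2) (u g x 3) := commute_of hC (by norm_num) (by norm_num)
  have c24 : Commute (u g x 2) (u g x 4) := commute_of hC (by norm_num) (by norm_num)
  have c34 : Commute (u g x 3) (u g x 4) := commute_of hC (by norm_num) (by norm_num)
  rw [iv, iv] at hmem
  have hne : u g x 0 * u g x 3 * u g x 0 * u g x 3 ≠ 1 := by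
    intro h1
    apply hnC
    change u g x 0 * u g x 3 = u g x 3 * u g x 0
    have h2 : u g x 0 * u g x 3 * (u g x 0 * u g x 3) = 1 := by rw [← h1]; group
    have h3 := eq_inv_of_mul_eq_one_left h2
    rw [mul_inv_rev, iv, iv] at h3
    exact h3
  have hsh : ∀ j, u g x 0 * u g x 3 * u g x 0 * u g x 3 = u g x j →
      u g x 1 * u g x 4 * u g x 1 * u g x 4 = u g x (j + 1) := by
    intro j hj
    have e0 := u_add g x 0 1
    have e3 := u_add g x 3 1
    have ej := u_add g x j 1
    rw [show 0 + 1 = 1 from rfl] at e0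
    rw [show 3 + 1 = 4 from rfl] at e3
    calc u g x 1 * u g x 4 * u g x 1 * u g x 4
        = (g ^ 1)⁻¹ * (u g x 0 * u g x 3 * u g x 0 * u g x 3) * g ^ 1 := by rw [e0, e3]; group
      _ = u g x (j + 1) := by rw [hj, ← ej]
  set r := u g x 0 * u g x 4 with hr
  have hrn := r_pow_mem h ht hn hcard
  rw [← hr] at hrn
  have hcop : Nat.Coprime 2 n := (Nat.coprime_two_left).2 hn
  have hcent : ∀ q ∈ Sg g x 1 4, Commute (r ^ n) q := fun q hq => commute_seg hC (a := 1) (b := 4) (c := 1) (d := 4)
    (fun i j h1 h2 h3 h4 => by omega) hrn hq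
  have hrc : ∀ q ∈ Sg g x 1 4, r * r * q = q * (r * r) → r * q = q * r := by
    intro q hq h2
    have m1 : r ^ n ∈ centralizer {q} := by
      rw [mem_centralizer_singleton_iff]
      exact (hcent q hq).eq
    have m2 : r ^ 2 ∈ centralizer {q} := by
      rw [mem_centralizer_singleton_iff, pow_two]
      exact h2
    have h4 := mem_of_coprime m2 m1 hcop
    rwa [mem_centralizer_singleton_iff] at h4
  have q1 : u g x 1 ∈ Sg g x 1 4 := mem_Sg g x (by norm_num) (by norm_num)
  have q3 : u g x 3 ∈ Sg g x 1 4 := mem_Sg g x (by norm_num) (by norm_num)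
  -- enumerate
  obtain ⟨v, hv, hvv⟩ := seg_left h ht hC (a := 1) (b := 3) (by norm_num) (by norm_num) hmem
  rcases mem_single h ht hv with rfl | rfl
  · rcases hvv with hvv | hvv
    · exact absurd hvv hne
    · exfalso
      rw [mul_one] at hvv
      have h14 := hsh 1 hvv
      rw [show 1 + 1 = 2 from rfl] at h14
      have a41 : u g x 4 * u g x 1 = u g x 1 * u g x 2 * u g x 4 := by
        calc u g x 4 * u g x 1 = (u g x 1)⁻¹ * (u g x 1 * u g x 4 * u g x 1 * u g x 4) * (u g x 4)⁻¹ := by group
          _ = _ := by rw [h14, iv, iv]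
      have r1 : r * u g x 1 = u g x 1 * u g x 2 * r := by
        calc r * u g x 1 = u g x 0 * (u g x 4 * u g x 1) := by rw [hr]; group
          _ = (u g x 0 * u g x 1) * u g x 2 * u g x 4 := by rw [a41]; group
          _ = u g x 1 * (u g x 0 * u g x 2) * u g x 4 := by rw [c01.eq]; group
          _ = u g x 1 * u g x 2 * (u g x 0 * u g x 4) := by rw [c02.eq]; group
          _ = _ := by rw [hr]
      have r2 : r * u g x 2 = u g x 2 * r := by
        rw [hr]; exact (c02.symm.mul_right c24).symm.eq
      have h5 : r * r * u g x 1 = u g x 1 * (r * r) := by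
        calc r * r * u g x 1 = r * (r * u g x 1) := by group
          _ = r * (u g x 1 * u g x 2 * r) := by rw [r1]
          _ = (r * u g x 1) * u g x 2 * r := by group
          _ = (u g x 1 * u g x 2 * r) * u g x 2 * r := by rw [r1]
          _ = u g x 1 * u g x 2 * (r * u g x 2) * r := by group
          _ = u g x 1 * (u g x 2 * u g x 2) * (r * r) := by rw [r2]; group
          _ = u g x 1 * (r * r) := by rw [sq, mul_one]
      have h6 := hrc _ q1 h5
      rw [r1] at h6
      have h7 := mul_right_cancel h6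
      exact ne1 2 (mul_eq_left.1 h7)
  · rcases hvv with hvv | hvv
    · exfalso
      rw [show 1 + 1 = 2 from rfl] at hvv
      have h14 := hsh 2 hvv
      rw [show 2 + 1 = 3 from rfl] at h14
      have a03 : u g x 0 * u g x 3 = u g x 2 * u g x 3 * u g x 0 := by
        calc u g x 0 * u g x 3 = (u g x 0 * u g x 3 * u g x 0 * u g x 3) * (u g x 3)⁻¹ * (u g x 0)⁻¹ := by group
          _ = _ := by rw [hvv, iv, iv]
      have r3 : r * u g x 3 = u g x 2 * u g x 3 * r := by
        calc r * u g x 3 = u g x 0 * (u g x 4 * u g x 3) := by rw [hr]; group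
          _ = (u g x 0 * u g x 3) * u g x 4 := by rw [← c34.eq]; group
          _ = u g x 2 * u g x 3 * (u g x 0 * u g x 4) := by rw [a03]; group
          _ = _ := by rw [hr]
      have r2 : r * u g x 2 = u g x 2 * r := by
        rw [hr]; exact (c02.symm.mul_right c24).symm.eq
      have h5 : r * r * u g x 3 = u g x 3 * (r * r) := by
        calc r * r * u g x 3 = r * (r * u g x 3) := by group
          _ = r * (u g x 2 * u g x 3 * r) := by rw [r3]
          _ = (r * u g x 2) * u g x 3 * r := by group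
          _ = u g x 2 * (r * u g x 3) * r := by rw [r2]; group
          _ = (u g x 2 * u g x 2) * u g x 3 * (r * r) := by rw [r3]; group
          _ = u g x 3 * (r * r) := by rw [sq, one_mul]
      have h6 := hrc _ q3 h5
      rw [r3, mul_assoc] at h6
      exact ne1 2 (mul_eq_right.1 h6)
    · exact hvv

end Cfsg.Agent.H20.GIso
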