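import Mathlib
import Cfsg.Agent.H20.GIsoJ

/-!
Structure of `Sg 0 (t+1)` for `t = 4` (S3685, S4385). Owner: helper20.
-/

set_option autoImplicit false
set_option maxHeartbeats 1600000

namespace Cfsg.Agent.H20.GIso

open Subgroup

variable {G : Type*} [Group G] [Finite G] {g x : G}

theorem zpowers_mem_two {a z : G} (ha : a * a = 1) (hz : z ∈ zpowers a) : z = 1 ∨ z = a := by
  obtain ⟨j, hj⟩ := mem_zpowers_iff.1 hz
  rcases Int.even_or_odd' j with ⟨i, rfl | rfl⟩
  · left; rw [← hj, zpow_mul, zpow_two, ha, one_zpow]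
  · right; rw [← hj, zpow_add, zpow_mul, zpow_two, ha, one_zpow, one_mul, zpow_one]

theorem norm_zpowers_of_commute {a z : G} (h : Commute a z) : a ∈ normalizer ((zpowers z : Subgroup G) : Set G) := by
  apply mem_normalizer_fintype
  intro n hn
  obtain ⟨k, rfl⟩ := mem_zpowers_iff.1 hn
  rw [(h.zpow_right k).eq, mul_inv_cancel_right]
  exact hn

theorem struct4 (h : GS g x 2 4) (hC : ∀ k < 3, Commute (u g x 0) (u g x k))
    (h03 : u g x 0 * u g x 3 * u g x 0 * u g x 3 = u g x 1 * u g x 2) {n : ℕ} (hn : Odd n)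
    (hcard : Nat.card (Sg g x 0 5) = n * 16) :
    ∃ f : ↥(Sg g x 0 5) →* Equiv.Perm (Fin 4) × Multiplicative (ZMod 2), Function.Surjective f ∧
      (Nat.card f.ker).Coprime 2 ∧
      ∀ N : Subgroup ↥(Sg g x 0 5), N.Normal → (Nat.card N).Coprime 2 → N ≤ f.ker := by
  have ht : 1 ≤ 4 := by norm_num
  have hnp : 0 < n := hn.pos
  have sq := u_sq h ht
  have iv := u_inv h ht
  have ne1 := u_ne h ht
  have nes := u_ne_succ h (by norm_num)
  have nes2 := u_ne_ssucc h (by norm_num)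
  have c01 : Commute (u g x 0) (u g x 1) := hC 1 (by norm_num)
  have c02 : Commute (u g x 0) (u g x 2) := hC 2 (by norm_num)
  have c12 : Commute (u g x 1) (u g x 2) := commute_of hC (by norm_num) (by norm_num)
  have c13 : Commute (u g x 1) (u g x 3) := commute_of hC (by norm_num) (by norm_num)
  have c23 : Commute (u g x 2) (u g x 3) := commute_of hC (by norm_num) (by norm_num)
  have c24 : Commute (u g x 2) (u g x 4) := commute_of hC (by norm_num) (by norm_num)
  have c34 : Commute (u g x 3) (u g x 4) := commute_of hC (by norm_num) (by norm_num)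
  have n12 : u g x 1 * u g x 2 ≠ 1 := by
    intro h1
    apply nes 1
    have := eq_inv_of_mul_eq_one_left h1
    rwa [iv] at this
  have hnC : ¬ Commute (u g x 0) (u g x 3) := by
    intro hc
    apply n12
    rw [← h03, hc.eq, mul_assoc (u g x 3), sq, mul_one, sq]
  have h14 : u g x 1 * u g x 4 * u g x 1 * u g x 4 = u g x 2 * u g x 3 := by
    have e0 := u_add g x 0 1
    have e3 := u_add g x 3 1
    have e1 := u_add g x 1 1
    have e2 := u_add g x 2 1
    rw [show 0 + 1 = 1 from rfl] at e0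
    rw [show 3 + 1 = 4 from rfl] at e3
    rw [show 1 + 1 = 2 from rfl] at e1
    rw [show 2 + 1 = 3 from rfl] at e2
    calc u g x 1 * u g x 4 * u g x 1 * u g x 4
        = (g ^ 1)⁻¹ * (u g x 0 * u g x 3 * u g x 0 * u g x 3) * g ^ 1 := by rw [e0, e3]; group
      _ = ((g ^ 1)⁻¹ * u g x 1 * g ^ 1) * ((g ^ 1)⁻¹ * u g x 2 * g ^ 1) := by rw [h03]; group
      _ = u g x 2 * u g x 3 := by rw [← e1, ← e2]
  set r := u g x 0 * u g x 4 with hr
  have hri : r⁻¹ = u g x 4 * u g x 0 := by rw [hr, mul_inv_rev, iv, iv]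
  have hinv : u g x 0 * r * (u g x 0)⁻¹ = r⁻¹ := by
    rw [hri, hr, iv, ← mul_assoc, sq, one_mul]
  have a03 : u g x 0 * u g x 3 = u g x 1 * u g x 2 * u g x 3 * u g x 0 := by
    calc u g x 0 * u g x 3 = (u g x 0 * u g x 3 * u g x 0 * u g x 3) * (u g x 3)⁻¹ * (u g x 0)⁻¹ := by group
      _ = _ := by rw [h03, iv, iv]
  have a41 : u g x 4 * u g x 1 = u g x 1 * u g x 2 * u g x 3 * u g x 4 := by
    calc u g x 4 * u g x 1 = (u g x 1)⁻¹ * (u g x 1 * u g x 4 * u g x 1 * u g x 4) * (u g x 4)⁻¹ := by group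
      _ = u g x 1 * (u g x 2 * u g x 3) * u g x 4 := by rw [h14, iv, iv]
      _ = _ := by group
  have r2 : r * u g x 2 = u g x 2 * r := by
    rw [hr]; exact (c02.symm.mul_right c24).symm.eq
  have r1 : r * u g x 1 = u g x 3 * r := by
    calc r * u g x 1 = u g x 0 * (u g x 4 * u g x 1) := by rw [hr]; group
      _ = (u g x 0 * u g x 1) * u g x 2 * u g x 3 * u g x 4 := by rw [a41]; group
      _ = u g x 1 * (u g x 0 * u g x 2) * u g x 3 * u g x 4 := by rw [c01.eq]; group
      _ = u g x 1 * u g x 2 * (u g x 0 * u g x 3) * u g x 4 := by rw [c02.eq]; group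
      _ = u g x 1 * (u g x 2 * u g x 1) * u g x 2 * u g x 3 * (u g x 0 * u g x 4) := by rw [a03]; group
      _ = (u g x 1 * u g x 1) * (u g x 2 * u g x 2) * u g x 3 * (u g x 0 * u g x 4) := by rw [← c12.eq]; group
      _ = u g x 3 * r := by rw [sq, sq, one_mul, one_mul]
  have r3 : r * u g x 3 = u g x 1 * u g x 2 * u g x 3 * r := by
    calc r * u g x 3 = u g x 0 * (u g x 4 * u g x 3) := by rw [hr]; group
      _ = (u g x 0 * u g x 3) * u g x 4 := by rw [← c34.eq]; group
      _ = u g x 1 * u g x 2 * u g x 3 * (u g x 0 * u g x 4) := by rw [a03]; group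
      _ = _ := by rw [hr]
  have rr1 : r * r * u g x 1 = u g x 1 * u g x 2 * u g x 3 * (r * r) := by
    calc r * r * u g x 1 = r * (r * u g x 1) := by group
      _ = (r * u g x 3) * r := by rw [r1]; group
      _ = _ := by rw [r3]; group
  have rrr : r * r * r * u g x 1 = u g x 1 * (r * r * r) := by
    calc r * r * r * u g x 1 = r * (r * r * u g x 1) := by group
      _ = (r * u g x 1) * u g x 2 * u g x 3 * (r * r) := by rw [rr1]; group
      _ = u g x 3 * (r * u g x 2) * u g x 3 * (r * r) := by rw [r1]; group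
      _ = u g x 3 * u g x 2 * (r * u g x 3) * (r * r) := by rw [r2]; group
      _ = u g x 3 * u g x 2 * (u g x 1 * u g x 2) * u g x 3 * (r * r * r) := by rw [r3]; group
      _ = u g x 3 * (u g x 2 * u g x 2) * u g x 1 * u g x 3 * (r * r * r) := by rw [c12.eq]; group
      _ = u g x 3 * (u g x 1 * u g x 3) * (r * r * r) := by rw [sq, mul_one]; group
      _ = (u g x 3 * u g x 3) * u g x 1 * (r * r * r) := by rw [c13.eq]; group
      _ = _ := by rw [sq, one_mul]
  have hQn := Q_normal h ht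
  have hrn := r_pow_mem h ht hn hcard
  rw [← hr] at hrn
  have hrn1 : r ^ n ∈ zpowers (u g x 2) := by
    have hzz := seg_sq h ht hC (a := 1) (b := 4) (by norm_num) hrn
    obtain ⟨q0, q3⟩ := rn_comm h ht hzz (n := n) rfl
    have := cent_Q h (by norm_num) hC hnC hrn q0 q3
    rwa [Sg_single] at this
  have m0 : u g x 0 ∈ Sg g x 0 5 := mem_Sg g x le_rfl (by norm_num)
  have m1 : u g x 1 ∈ Sg g x 0 5 := mem_Sg g x (by norm_num) (by norm_num)
  have m2 : u g x 2 ∈ Sg g x 0 5 := mem_Sg g x (by norm_num) (by norm_num)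
  have m3 : u g x 3 ∈ Sg g x 0 5 := mem_Sg g x (by norm_num) (by norm_num)
  have m4 : u g x 4 ∈ Sg g x 0 5 := mem_Sg g x (by norm_num) (by norm_num)
  have mr : r ∈ Sg g x 0 5 := mul_mem m0 m4
  set ρ := r ^ (n + 1) with hρ
  have mρ : ρ ∈ Sg g x 0 5 := pow_mem mr _
  have hρn : ρ ^ n = 1 := by
    rw [hρ, ← pow_mul, mul_comm, pow_mul]
    have hz := zpowers_mem_two (sq 2) hrn1
    obtain ⟨k, hk⟩ := hn
    rcases hz with hz | hz
    · rw [hz, one_pow]
    · rw [hz, hk, show 2 * k + 1 + 1 = 2 * (k + 1) by ring, pow_mul, pow_two, sq, one_pow]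
  have hinvρ : u g x 0 * ρ * (u g x 0)⁻¹ = ρ⁻¹ := by
    rw [hρ, ← conj_pow, hinv, inv_pow]
  have hrρ : r = ρ * (r ^ n)⁻¹ := by
    rw [hρ, pow_succ', mul_inv_cancel_right]
  -- `u₂` is central
  have hZ : ∀ w ∈ Sg g x 0 5, Commute w (u g x 2) := by
    intro w hw
    exact commute_seg hC (a := 0) (b := 5) (c := 2) (d := 3) (fun i j h1 h2 h3 h4 => by omega) hw
      (mem_Sg g x le_rfl (by norm_num))
  have hZn : Sg g x 0 5 ≤ normalizer ((zpowers (u g x 2) : Subgroup G) : Set G) :=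
    fun w hw => norm_zpowers_of_commute (hZ w hw)
  have cZ : Nat.card (zpowers (u g x 2)) = 2 := by
    rw [Nat.card_zpowers]; exact orderOf_eq_prime (by rw [pow_two, sq]) (ne1 2)
  -- the dihedral part
  set D0 := zpowers (u g x 0) ⊔ zpowers ρ with hD0
  have d0 : u g x 0 ∈ D0 := mem_sup_left (mem_zpowers _)
  have dρ : ρ ∈ D0 := mem_sup_right (mem_zpowers _)
  have hD0H : D0 ≤ Sg g x 0 5 := sup_le (by rw [zpowers_le]; exact m0) (by rw [zpowers_le]; exact mρ)
  have cD0 : Nat.card D0 ∣ 2 * n := dih_card (sq 0) hρn hinvρ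
  have hQH : Sg g x 1 4 ≤ Sg g x 0 5 := Sg_mono g x (by norm_num) (by norm_num)
  have cQ : Nat.card (Sg g x 1 4) = 8 := by
    rw [card_Sg h (by norm_num) (by norm_num)]; norm_num
  -- `D`
  set D := D0 ⊔ zpowers (u g x 2) with hD
  have hDH : D ≤ Sg g x 0 5 := sup_le hD0H (by rw [zpowers_le]; exact m2)
  have dr : r ∈ D := by
    rw [hrρ]
    exact mul_mem (mem_sup_left dρ) (inv_mem (mem_sup_right hrn1))
  have d4 : u g x 4 ∈ D := by
    have : u g x 4 = (u g x 0)⁻¹ * r := by rw [hr]; group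
    rw [this]; exact mul_mem (inv_mem (mem_sup_left d0)) dr
  have cD : Nat.card D ∣ 2 * n * 2 := by
    have := card_sup_dvd (hD0H.trans hZn)
    rw [cZ] at this
    exact this.trans (mul_dvd_mul_right cD0 2)
  have hDQ : D ⊔ Sg g x 1 4 = Sg g x 0 5 := by
    apply le_antisymm (sup_le hDH hQH)
    conv_lhs => rw [Sg]
    rw [closure_le]
    rintro y ⟨i, -, hi, rfl⟩
    interval_cases i
    · exact mem_sup_left (mem_sup_left d0)
    · exact mem_sup_right (mem_Sg g x (by norm_num) (by norm_num))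
    · exact mem_sup_right (mem_Sg g x (by norm_num) (by norm_num))
    · exact mem_sup_right (mem_Sg g x (by norm_num) (by norm_num))
    · exact mem_sup_left d4
  have hc1 := Cfsg.Agent.H11.card_sup_mul_card_inf (hDH.trans hQn)
  rw [hDQ, hcard, cQ] at hc1
  have hc2 : Nat.card D = 2 * n * Nat.card ↥(D ⊓ Sg g x 1 4) := by
    have : Nat.card D * 8 = (2 * n * Nat.card ↥(D ⊓ Sg g x 1 4)) * 8 := by rw [← hc1]; ring
    exact Nat.eq_of_mul_eq_mul_right (by norm_num) this
  have hZD : zpowers (u g x 2) ≤ D ⊓ Sg g x 1 4 := by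
    rw [zpowers_le]
    exact mem_inf.2 ⟨mem_sup_right (mem_zpowers _), mem_Sg g x (by norm_num) (by norm_num)⟩
  have hc3 : Nat.card ↥(D ⊓ Sg g x 1 4) = 2 := by
    rw [hc2] at cD
    have h1 : Nat.card ↥(D ⊓ Sg g x 1 4) ∣ 2 :=
      Nat.dvd_of_mul_dvd_mul_left (by positivity : 0 < 2 * n) cD
    have h2 := card_dvd_of_le hZD
    rw [cZ] at h2
    exact Nat.dvd_antisymm h1 h2
  rw [hc3] at hc2
  have hDQ1 : D ⊓ Sg g x 1 4 = zpowers (u g x 2) :=
    (Subgroup.eq_of_le_of_card_ge hZD (by rw [hc3, cZ])).symm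
  have hidx : (D.subgroupOf (Sg g x 0 5)).index = 4 := by
    have h1 := Cfsg.Agent.H11.card_mul_relIndex hDH
    rw [hc2, hcard, show n * 16 = 2 * n * 2 * 4 by ring] at h1
    exact Nat.eq_of_mul_eq_mul_left (by positivity) h1
  set K := (D.subgroupOf (Sg g x 0 5)).normalCore with hK
  have hKn : K.Normal := normalCore_normal _
  have hKQ : ∀ z : ↥(Sg g x 0 5), z ∈ K → ∀ q ∈ Sg g x 1 4,
      (z : G) * q * (z : G)⁻¹ * q⁻¹ = 1 ∨ (z : G) * q * (z : G)⁻¹ * q⁻¹ = u g x 2 := by
    intro z hz q hq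
    have h1 : z * ⟨q, hQH hq⟩ * z⁻¹ * (⟨q, hQH hq⟩ : ↥(Sg g x 0 5))⁻¹ ∈ K := by
      have := mul_mem hz (hKn.conj_mem _ (inv_mem hz) ⟨q, hQH hq⟩)
      rwa [← mul_assoc, ← mul_assoc] at this
    have h2 : (z : G) * q * (z : G)⁻¹ * q⁻¹ ∈ D := normalCore_le (D.subgroupOf (Sg g x 0 5)) h1
    have h3 : (z : G) * q * (z : G)⁻¹ * q⁻¹ ∈ Sg g x 1 4 :=
      mul_mem ((mem_normalizer_iff.1 (hQn z.2) q).1 hq) (inv_mem hq)
    apply zpowers_mem_two (sq 2)
    rw [← hDQ1]; exact mem_inf.2 ⟨h2, h3⟩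
  have q1 : u g x 1 ∈ Sg g x 1 4 := mem_Sg g x (by norm_num) (by norm_num)
  have q3 : u g x 3 ∈ Sg g x 1 4 := mem_Sg g x (by norm_num) (by norm_num)
  have hTH : Sg g x 0 4 ≤ Sg g x 0 5 := Sg_mono g x le_rfl (by norm_num)
  have hfin := fin4 (T := (Sg g x 0 4).subgroupOf (Sg g x 0 5)) hidx (n := n) (j := 1) hnp
    (by rw [hcard]; norm_num)
    (by rw [Nat.card_congr (subgroupOfEquivOfLe hTH).toEquiv, card_Sg h (by norm_num) (by norm_num)])
    (by
      have hle : (D.subgroupOf (Sg g x 0 5)).normalCore ⊓ (Sg g x 0 4).subgroupOf (Sg g x 0 5) ≤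
          (zpowers (u g x 2)).subgroupOf (Sg g x 0 5) := by
        intro z hz
        obtain ⟨hz1, hz2⟩ := mem_inf.1 hz
        obtain ⟨v, hv, hzv | hzv⟩ := T_dec h ht (show (z : G) ∈ Sg g x 0 4 from hz2)
        · have h1 : (z : G) ∈ D ⊓ Sg g x 1 4 :=
            mem_inf.2 ⟨normalCore_le (D.subgroupOf (Sg g x 0 5)) hz1, by rw [hzv]; exact hv⟩
          rw [hDQ1] at h1
          exact h1
        · exfalso
          have h1 := hKQ z hz1 _ q3
          have h2 : Commute v (u g x 3) := commute_seg hC (a := 1) (b := 4) (c := 1) (d := 4)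
            (fun i j h1 h2 h3 h4 => by omega) hv q3
          have h3 : (z : G) * u g x 3 * (z : G)⁻¹ * (u g x 3)⁻¹ = u g x 1 * u g x 2 := by
            rw [hzv, ← h03]
            calc u g x 0 * v * u g x 3 * (u g x 0 * v)⁻¹ * (u g x 3)⁻¹
                = u g x 0 * (v * u g x 3) * v⁻¹ * (u g x 0)⁻¹ * (u g x 3)⁻¹ := by group
              _ = u g x 0 * (u g x 3 * v) * v⁻¹ * (u g x 0)⁻¹ * (u g x 3)⁻¹ := by rw [h2.eq]
              _ = u g x 0 * u g x 3 * (u g x 0)⁻¹ * (u g x 3)⁻¹ := by group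
              _ = _ := by rw [iv, iv]
          rw [h3] at h1
          rcases h1 with h1 | h1
          · exact n12 h1
          · exact ne1 1 (mul_eq_right.1 h1)
      refine (card_dvd_of_le hle).trans ?_
      rw [Nat.card_congr (subgroupOfEquivOfLe (by rw [zpowers_le]; exact m2)).toEquiv, cZ]
      norm_num)
    (r := ⟨r, mr⟩)
    (by
      intro hcon
      have h1 := hKQ _ hcon _ q1
      change r ^ 8 * u g x 1 * (r ^ 8)⁻¹ * (u g x 1)⁻¹ = 1 ∨ r ^ 8 * u g x 1 * (r ^ 8)⁻¹ * (u g x 1)⁻¹ = u g x 2 at h1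
      have h3 : Commute (r * r * r) (u g x 1) := rrr
      have h8 : r ^ 8 = (r * r) * ((r * r * r) * (r * r * r)) := by
        simp only [pow_succ, pow_zero, one_mul, mul_assoc]
      have h6 : Commute ((r * r * r) * (r * r * r)) (u g x 1) := h3.mul_left h3
      have h7 : r ^ 8 * u g x 1 = u g x 1 * u g x 2 * u g x 3 * r ^ 8 := by
        rw [h8, mul_assoc, h6.eq, ← mul_assoc, rr1]
        simp only [mul_assoc]
      have h9 : r ^ 8 * u g x 1 * (r ^ 8)⁻¹ * (u g x 1)⁻¹ = u g x 2 * u g x 3 := by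
        rw [h7, mul_inv_cancel_right, iv, c12.eq, mul_assoc, mul_assoc, ← c13.eq, ← mul_assoc (u g x 1) (u g x 1),
          sq, one_mul]
      rw [h9] at h1
      rcases h1 with h1 | h1
      · apply nes 2
        have := eq_inv_of_mul_eq_one_left h1
        rwa [iv] at this
      · exact ne1 3 (mul_eq_left.1 h1))
  -- the subgroup `M`
  set W := closure {u g x 1 * u g x 2, u g x 2 * u g x 3} with hW
  have w1 : u g x 1 * u g x 2 ∈ W := subset_closure (by simp)
  have w2 : u g x 2 * u g x 3 ∈ W := subset_closure (by simp)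
  have hWe : W = zpowers (u g x 1 * u g x 2) ⊔ zpowers (u g x 2 * u g x 3) := by
    rw [hW, zpowers_eq_closure, zpowers_eq_closure, ← Subgroup.closure_union]
    rfl
  have sqw1 : (u g x 1 * u g x 2) * (u g x 1 * u g x 2) = 1 := by
    calc (u g x 1 * u g x 2) * (u g x 1 * u g x 2) = u g x 1 * (u g x 2 * u g x 1) * u g x 2 := by group
      _ = (u g x 1 * u g x 1) * (u g x 2 * u g x 2) := by rw [← c12.eq]; group
      _ = 1 := by rw [sq, sq, one_mul]
  have sqw2 : (u g x 2 * u g x 3) * (u g x 2 * u g x 3) = 1 := by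
    calc (u g x 2 * u g x 3) * (u g x 2 * u g x 3) = u g x 2 * (u g x 3 * u g x 2) * u g x 3 := by group
      _ = (u g x 2 * u g x 2) * (u g x 3 * u g x 3) := by rw [← c23.eq]; group
      _ = 1 := by rw [sq, sq, one_mul]
  have w12 : (u g x 1 * u g x 2) * (u g x 2 * u g x 3) = u g x 1 * u g x 3 := by
    calc (u g x 1 * u g x 2) * (u g x 2 * u g x 3) = u g x 1 * (u g x 2 * u g x 2) * u g x 3 := by group
      _ = _ := by rw [sq, mul_one]
  have w13 : u g x 1 * u g x 3 ∈ W := by rw [← w12]; exact mul_mem w1 w2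
  have cW : Nat.card W ∣ 4 := by
    rw [hWe]
    have hcomm : Commute (u g x 1 * u g x 2) (u g x 2 * u g x 3) :=
      (c12.mul_left (Commute.refl _)).mul_right (c13.mul_left c23)
    refine (card_sup_dvd (by rw [zpowers_le]; exact norm_zpowers_of_commute hcomm)).trans ?_
    rw [Nat.card_zpowers, Nat.card_zpowers]
    exact mul_dvd_mul (orderOf_dvd_of_pow_eq_one (n := 2) (by rw [pow_two, sqw1]))
      (orderOf_dvd_of_pow_eq_one (n := 2) (by rw [pow_two, sqw2]))
  have nW0 : u g x 0 ∈ normalizer ((W : Subgroup G) : Set G) := by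
    apply mem_norm_closure
    rintro y (rfl | rfl)
    · have : u g x 0 * (u g x 1 * u g x 2) * (u g x 0)⁻¹ = u g x 1 * u g x 2 := by
        rw [(c01.mul_right c02).eq, mul_inv_cancel_right]
      rw [this]; exact w1
    · have : u g x 0 * (u g x 2 * u g x 3) * (u g x 0)⁻¹ = u g x 1 * u g x 3 := by
        calc u g x 0 * (u g x 2 * u g x 3) * (u g x 0)⁻¹ = (u g x 0 * u g x 2) * u g x 3 * (u g x 0)⁻¹ := by group
          _ = u g x 2 * (u g x 0 * u g x 3) * (u g x 0)⁻¹ := by rw [c02.eq]; group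
          _ = (u g x 2 * u g x 1) * u g x 2 * u g x 3 := by rw [a03]; group
          _ = u g x 1 * (u g x 2 * u g x 2) * u g x 3 := by rw [← c12.eq]; group
          _ = u g x 1 * u g x 3 := by rw [sq, mul_one]
      rw [this]; exact w13
  have nWr : r ∈ normalizer ((W : Subgroup G) : Set G) := by
    apply mem_norm_closure
    rintro y (rfl | rfl)
    · have : r * (u g x 1 * u g x 2) * r⁻¹ = u g x 2 * u g x 3 := by
        calc r * (u g x 1 * u g x 2) * r⁻¹ = (r * u g x 1) * u g x 2 * r⁻¹ := by group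
          _ = u g x 3 * (r * u g x 2) * r⁻¹ := by rw [r1]; group
          _ = u g x 3 * u g x 2 := by rw [r2]; group
          _ = u g x 2 * u g x 3 := c23.eq.symm
      rw [this]; exact w2
    · have : r * (u g x 2 * u g x 3) * r⁻¹ = u g x 1 * u g x 3 := by
        calc r * (u g x 2 * u g x 3) * r⁻¹ = (r * u g x 2) * u g x 3 * r⁻¹ := by group
          _ = u g x 2 * (r * u g x 3) * r⁻¹ := by rw [r2]; group
          _ = (u g x 2 * u g x 1) * u g x 2 * u g x 3 := by rw [r3]; group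
          _ = u g x 1 * (u g x 2 * u g x 2) * u g x 3 := by rw [← c12.eq]; group
          _ = u g x 1 * u g x 3 := by rw [sq, mul_one]
      rw [this]; exact w13
  have hD0W : D0 ≤ normalizer ((W : Subgroup G) : Set G) :=
    sup_le (by rw [zpowers_le]; exact nW0) (by rw [zpowers_le]; exact pow_mem nWr _)
  set M := D0 ⊔ W with hM
  have hWH : W ≤ Sg g x 0 5 := by
    rw [hW, closure_le]
    rintro y (rfl | rfl)
    · exact mul_mem m1 m2
    · exact mul_mem m2 m3
  have hMH : M ≤ Sg g x 0 5 := sup_le hD0H hWH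
  have cM : Nat.card M ∣ 2 * n * 4 := (card_sup_dvd hD0W).trans (mul_dvd_mul cD0 cW)
  have hMZ : M ⊔ zpowers (u g x 2) = Sg g x 0 5 := by
    apply le_antisymm (sup_le hMH (by rw [zpowers_le]; exact m2))
    have z2 : u g x 2 ∈ M ⊔ zpowers (u g x 2) := mem_sup_right (mem_zpowers _)
    have z0 : u g x 0 ∈ M ⊔ zpowers (u g x 2) := mem_sup_left (mem_sup_left d0)
    conv_lhs => rw [Sg]
    rw [closure_le]
    rintro y ⟨i, -, hi, rfl⟩
    interval_cases i
    · exact z0
    · have : u g x 1 = (u g x 1 * u g x 2) * (u g x 2)⁻¹ := by group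
      rw [this]; exact mul_mem (mem_sup_left (mem_sup_right w1)) (inv_mem z2)
    · exact z2
    · have : u g x 3 = (u g x 2)⁻¹ * (u g x 2 * u g x 3) := by group
      rw [this]; exact mul_mem (inv_mem z2) (mem_sup_left (mem_sup_right w2))
    · have h1 : u g x 4 = (u g x 0)⁻¹ * r := by rw [hr]; group
      rw [h1, hrρ]
      exact mul_mem (inv_mem z0) (mul_mem (mem_sup_left (mem_sup_left dρ)) (inv_mem (mem_sup_right hrn1)))
  have cM' : n * 16 ∣ Nat.card M * 2 := by
    have := card_sup_dvd (hMH.trans hZn)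
    rwa [hMZ, hcard, cZ] at this
  have cM2 : Nat.card M = n * 8 := by
    apply Nat.dvd_antisymm
    · rw [show n * 8 = 2 * n * 4 by ring]; exact cM
    · rw [show n * 16 = n * 8 * 2 by ring] at cM'
      exact Nat.dvd_of_mul_dvd_mul_right (by norm_num) cM'
  have hMidx : (M.subgroupOf (Sg g x 0 5)).index = 2 := by
    have h1 := Cfsg.Agent.H11.card_mul_relIndex hMH
    rw [cM2, hcard, show n * 16 = n * 8 * 2 by ring] at h1
    exact Nat.eq_of_mul_eq_mul_left (by positivity) h1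
  have hu2M : u g x 2 ∉ M := by
    intro hm
    have h1 : M ⊔ zpowers (u g x 2) = M := sup_eq_left.2 (by rw [zpowers_le]; exact hm)
    rw [hMZ] at h1
    rw [← h1, hcard] at cM2
    omega
  obtain ⟨f, hf1, hf2⟩ := perm4C2 hidx hfin hMidx (by
    intro hle
    have h1 : (⟨u g x 2, m2⟩ : ↥(Sg g x 0 5)) ∈ K := by
      have h2 : zpowers (⟨u g x 2, m2⟩ : ↥(Sg g x 0 5)) ≤ K := by
        haveI : (zpowers (⟨u g x 2, m2⟩ : ↥(Sg g x 0 5))).Normal := by
          rw [← normalizer_eq_top_iff, eq_top_iff]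
          intro w _
          exact norm_zpowers_of_commute (Subtype.ext (hZ w w.2).eq)
        rw [hK, normal_le_normalCore, zpowers_le]
        exact mem_sup_right (mem_zpowers _)
      exact h2 (mem_zpowers _)
    exact hu2M (hle h1))
  refine ⟨f, hf1, ?_, ?_⟩
  · have h1 := f.ker.card_mul_index
    have h2 : f.ker.index = 48 := by
      rw [index_ker, MonoidHom.range_eq_top.2 hf1, card_top, Nat.card_prod, Nat.card_congr Multiplicative.toAdd,
        Nat.card_zmod, Nat.card_perm, Nat.card_fin]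
      rfl
    rw [hcard, h2, show 48 = 3 * 16 by norm_num, ← mul_assoc] at h1
    have h3 := Nat.eq_of_mul_eq_mul_right (by norm_num : 0 < 16) h1
    exact Nat.Coprime.coprime_dvd_left ⟨3, h3.symm⟩ (Nat.coprime_two_right.2 hn)
  · intro N hN ho
    rw [hf2, le_inf_iff, normal_le_normalCore]
    exact ⟨odd_le hN ho (k := 2) (by rw [hidx]; norm_num), odd_le hN ho (k := 1) (by rw [hMidx]; norm_num)⟩

end Cfsg.Agent.H20.GIso
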