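import Mathlib
import Cfsg.Agent.H20.GIsoK
import Cfsg.Agent.H20.DihQuat

/-!
Structure of `Sg 0 (t+1)` for `t ≤ 2` and the type theorem (S3685, S4385). Owner: helper20.
-/

set_option autoImplicit false
set_option maxHeartbeats 800000

namespace Cfsg.Agent.H20.GIso

open Subgroup

theorem klein_of {L : Type*} [Group L] (h4 : Nat.card L = 4) (hsq : ∀ x : L, x * x = 1) :
    Nonempty (L ≃* Multiplicative (ZMod 2) × Multiplicative (ZMod 2)) := by
  have mk : ∀ {M : Type _} [Group M], Nat.card M = 4 → (∀ x : M, x * x = 1) → IsKleinFour M := by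
    intro M _ h4 hsq
    haveI : Finite M := Nat.finite_of_card_ne_zero (by rw [h4]; norm_num)
    refine ⟨h4, ?_⟩
    have h1 : Monoid.exponent M ∣ 2 := Monoid.exponent_dvd_of_forall_pow_eq_one (fun x => by rw [pow_two, hsq])
    rcases (Nat.dvd_prime Nat.prime_two).1 h1 with h2 | h2
    · exfalso
      rw [Monoid.exp_eq_one_iff] at h2
      have := Nat.card_of_subsingleton (1 : M)
      omega
    · exact h2
  have mk2 : ∀ {M : Type} [Group M], Nat.card M = 4 → (∀ x : M, x * x = 1) → IsKleinFour M := by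
    intro M _ h4 hsq
    haveI : Finite M := Nat.finite_of_card_ne_zero (by rw [h4]; norm_num)
    refine ⟨h4, ?_⟩
    have h1 : Monoid.exponent M ∣ 2 := Monoid.exponent_dvd_of_forall_pow_eq_one (fun x => by rw [pow_two, hsq])
    rcases (Nat.dvd_prime Nat.prime_two).1 h1 with h2 | h2
    · exfalso
      rw [Monoid.exp_eq_one_iff] at h2
      have := Nat.card_of_subsingleton (1 : M)
      omega
    · exact h2
  haveI i1 : IsKleinFour L := mk h4 hsq
  haveI i2 : IsKleinFour (Multiplicative (ZMod 2) × Multiplicative (ZMod 2)) := mk2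
    (by rw [Nat.card_prod, Nat.card_congr Multiplicative.toAdd, Nat.card_zmod])
    (by decide)
  exact IsKleinFour.nonempty_mulEquiv

variable {G : Type*} [Group G] [Finite G] {g x : G}

/-- common part for `t = 2` -/
theorem part2 (h : GS g x 2 2) {n : ℕ} (hn : Odd n) (hcard : Nat.card (Sg g x 0 3) = n * 4)
    (hrn : (u g x 0 * u g x 2) ^ n ∈ zpowers (u g x 1)) : ((u g x 0 * u g x 2) ^ 2) ^ n = 1 := by
  rw [← pow_mul, mul_comm, pow_mul, pow_two]
  rcases zpowers_mem_two (u_sq h (by norm_num) 1) hrn with hz | hz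
  · rw [hz, one_mul]
  · rw [hz, u_sq h (by norm_num)]

theorem struct2 (h : GS g x 2 2) (hC : ∀ k < 2, Commute (u g x 0) (u g x k)) {n : ℕ} (hn : Odd n)
    (hcard : Nat.card (Sg g x 0 3) = n * 4) :
    Nonempty (↥(Sg g x 0 3) ⧸ Cfsg.oddCore ↥(Sg g x 0 3) ≃* Multiplicative (ZMod 2) × Multiplicative (ZMod 2)) := by
  have ht : 1 ≤ 2 := by norm_num
  have hnp : 0 < n := hn.pos
  have sq := u_sq h ht
  have iv := u_inv h ht
  have c01 : Commute (u g x 0) (u g x 1) := hC 1 (by norm_num)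
  have c12 : Commute (u g x 1) (u g x 2) := commute_of hC (by norm_num) (by norm_num)
  set r := u g x 0 * u g x 2 with hr
  have hri : r⁻¹ = u g x 2 * u g x 0 := by rw [hr, mul_inv_rev, iv, iv]
  have hinv : u g x 0 * r * (u g x 0)⁻¹ = r⁻¹ := by
    rw [hri, hr, iv, ← mul_assoc, sq, one_mul]
  have c1r : Commute (u g x 1) r := by rw [hr]; exact c01.symm.mul_right c12
  have hrn := r_pow_mem h ht hn hcard
  rw [← hr, Sg_single] at hrn
  have hρn : (r ^ 2) ^ n = 1 := part2 h hn hcard hrn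
  have hinvρ : u g x 0 * r ^ 2 * (u g x 0)⁻¹ = (r ^ 2)⁻¹ := by
    rw [← conj_pow, hinv, inv_pow]
  have m0 : u g x 0 ∈ Sg g x 0 3 := mem_Sg g x le_rfl (by norm_num)
  have m1 : u g x 1 ∈ Sg g x 0 3 := mem_Sg g x (by norm_num) (by norm_num)
  have m2 : u g x 2 ∈ Sg g x 0 3 := mem_Sg g x (by norm_num) (by norm_num)
  have mr : r ∈ Sg g x 0 3 := mul_mem m0 m2
  set K := zpowers (r ^ 2) with hK
  have hKH : K ≤ Sg g x 0 3 := by rw [hK, zpowers_le]; exact pow_mem mr _
  have cK : Nat.card K ∣ n := by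
    rw [hK, Nat.card_zpowers]; exact orderOf_dvd_of_pow_eq_one hρn
  have n0 : u g x 0 ∈ normalizer ((K : Subgroup G) : Set G) := inv_norm hinvρ
  have n1 : u g x 1 ∈ normalizer ((K : Subgroup G) : Set G) := norm_zpowers_of_commute (c1r.pow_right 2)
  have nr : r ∈ normalizer ((K : Subgroup G) : Set G) := norm_zpowers_of_commute ((Commute.refl r).pow_right 2)
  have n2 : u g x 2 ∈ normalizer ((K : Subgroup G) : Set G) := by
    have : u g x 2 = (u g x 0)⁻¹ * r := by rw [hr]; group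
    rw [this]; exact mul_mem (inv_mem n0) nr
  have hHK : Sg g x 0 3 ≤ normalizer ((K : Subgroup G) : Set G) := by
    conv_lhs => rw [Sg]
    rw [closure_le]
    rintro y ⟨i, -, hi, rfl⟩
    interval_cases i
    · exact n0
    · exact n1
    · exact n2
  have hTH : Sg g x 0 2 ≤ Sg g x 0 3 := Sg_mono g x le_rfl (by norm_num)
  have t0 : u g x 0 ∈ Sg g x 0 2 := mem_Sg g x le_rfl (by norm_num)
  have t1 : u g x 1 ∈ Sg g x 0 2 := mem_Sg g x (by norm_num) (by norm_num)
  have hsup : Sg g x 0 2 ⊔ K = Sg g x 0 3 := by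
    apply le_antisymm (sup_le hTH hKH)
    conv_lhs => rw [Sg]
    rw [closure_le]
    rintro y ⟨i, -, hi, rfl⟩
    interval_cases i
    · exact mem_sup_left t0
    · exact mem_sup_left t1
    · have h1 : u g x 2 = (u g x 0)⁻¹ * r := by rw [hr]; group
      rw [h1]
      refine mul_mem (inv_mem (mem_sup_left t0)) ?_
      obtain ⟨k, hk⟩ := hn
      have h2 : r = (r ^ 2) ^ (k + 1) * (r ^ n)⁻¹ := by
        rw [← pow_mul, show 2 * (k + 1) = n + 1 by omega, pow_succ', mul_inv_cancel_right]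
      rw [h2]
      refine mul_mem (mem_sup_right (pow_mem (mem_zpowers _) _)) (inv_mem (mem_sup_left ?_))
      have h3 : zpowers (u g x 1) ≤ Sg g x 0 2 := by rw [zpowers_le]; exact t1
      exact h3 hrn
  have cT : Nat.card (Sg g x 0 2) = 4 := by rw [card_Sg h (by norm_num) (by norm_num)]; norm_num
  have cK2 : Nat.card K = n := by
    apply Nat.dvd_antisymm cK
    have := card_sup_dvd (hTH.trans hHK)
    rw [hsup, hcard, cT, mul_comm] at this
    exact Nat.dvd_of_mul_dvd_mul_left (by norm_num) this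
  have hidx : (K.subgroupOf (Sg g x 0 3)).index = 4 := by
    have h1 := Cfsg.Agent.H11.card_mul_relIndex hKH
    rw [cK2, hcard] at h1
    exact Nat.eq_of_mul_eq_mul_left hnp h1
  have hKn : (K.subgroupOf (Sg g x 0 3)).Normal := (normal_subgroupOf_iff_le_normalizer hKH).2 hHK
  have hcore : Cfsg.oddCore ↥(Sg g x 0 3) = K.subgroupOf (Sg g x 0 3) := by
    apply oddCore_eq hKn
    · rw [Nat.card_congr (subgroupOfEquivOfLe hKH).toEquiv, cK2]
      exact Nat.coprime_two_right.2 hn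
    · intro N hN ho
      exact odd_le hN ho (k := 2) (by rw [hidx]; norm_num)
  apply klein_of
  · have : Nat.card (↥(Sg g x 0 3) ⧸ Cfsg.oddCore ↥(Sg g x 0 3)) = (Cfsg.oddCore ↥(Sg g x 0 3)).index := rfl
    rw [this, hcore, hidx]
  · intro z
    obtain ⟨y, rfl⟩ := QuotientGroup.mk_surjective z
    have hy : (y : G) ∈ Sg g x 0 2 ⊔ K := by rw [hsup]; exact y.2
    obtain ⟨a, ha, k, hk, hak⟩ := (Cfsg.Agent.H11.mem_sup_of_le_normalizer (hTH.trans hHK)).1 hy
    have haa : a * a = 1 := seg_sq h ht hC (a := 0) (b := 2) (by norm_num) ha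
    rw [← QuotientGroup.mk_mul, QuotientGroup.eq_one_iff, hcore, mem_subgroupOf]
    change (y : G) * y ∈ K
    rw [← hak]
    have : a * k * (a * k) = (a * k * a⁻¹) * (a * a) * k := by group
    rw [this, haa, mul_one]
    exact mul_mem ((mem_normalizer_iff.1 (hHK (hTH ha)) k).1 hk) hk

theorem struct2' (h : GS g x 2 2) (hC : ∀ k < 2, Commute (u g x 0) (u g x k))
    (hcard : Nat.card (Sg g x 0 3) = 3 * 4) : Nonempty (↥(Sg g x 0 3) ≃* DihedralGroup 6) := by
  have ht : 1 ≤ 2 := by norm_num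
  have hn : Odd 3 := ⟨1, rfl⟩
  have sq := u_sq h ht
  have iv := u_inv h ht
  have ne1 := u_ne h ht
  have c01 : Commute (u g x 0) (u g x 1) := hC 1 (by norm_num)
  have c12 : Commute (u g x 1) (u g x 2) := commute_of hC (by norm_num) (by norm_num)
  set r := u g x 0 * u g x 2 with hr
  have hri : r⁻¹ = u g x 2 * u g x 0 := by rw [hr, mul_inv_rev, iv, iv]
  have hinv : u g x 0 * r * (u g x 0)⁻¹ = r⁻¹ := by
    rw [hri, hr, iv, ← mul_assoc, sq, one_mul]
  have c1r : Commute (u g x 1) r := by rw [hr]; exact c01.symm.mul_right c12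
  have hrn := r_pow_mem h ht hn hcard
  rw [← hr, Sg_single] at hrn
  have hρn : (r ^ 2) ^ 3 = 1 := part2 h hn hcard hrn
  have m0 : u g x 0 ∈ Sg g x 0 3 := mem_Sg g x le_rfl (by norm_num)
  have m1 : u g x 1 ∈ Sg g x 0 3 := mem_Sg g x (by norm_num) (by norm_num)
  have m2 : u g x 2 ∈ Sg g x 0 3 := mem_Sg g x (by norm_num) (by norm_num)
  have mr : r ∈ Sg g x 0 3 := mul_mem m0 m2
  have hr2 : r ^ 2 ≠ 1 := by
    intro h1
    have h2 : r = r ^ 3 := by rw [pow_succ, h1, one_mul]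
    rw [← h2] at hrn
    have h3 : Sg g x 0 3 ≤ Sg g x 0 2 := by
      conv_lhs => rw [Sg]
      rw [closure_le]
      rintro y ⟨i, -, hi, rfl⟩
      interval_cases i
      · exact mem_Sg g x le_rfl (by norm_num)
      · exact mem_Sg g x (by norm_num) (by norm_num)
      · have h1 : u g x 2 = (u g x 0)⁻¹ * r := by rw [hr]; group
        rw [h1]
        refine mul_mem (inv_mem (mem_Sg g x le_rfl (by norm_num))) ?_
        have h3 : zpowers (u g x 1) ≤ Sg g x 0 2 := by
          rw [zpowers_le]; exact mem_Sg g x (by norm_num) (by norm_num)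
        exact h3 hrn
    have := card_le_of_le h3
    rw [hcard, card_Sg h (by norm_num) (by norm_num)] at this
    norm_num at this
  -- the element of order 6
  set c := r ^ 4 * u g x 1 with hc
  have c1r4 : Commute (r ^ 4) (u g x 1) := (c1r.pow_right 4).symm
  have r6 : r ^ 6 = 1 := by rw [← hρn, ← pow_mul]
  have hc2 : c ^ 2 = r ^ 2 := by
    rw [hc, c1r4.mul_pow, pow_two (u g x 1), sq, mul_one, ← pow_mul, show 4 * 2 = 6 + 2 from rfl, pow_add, r6, one_mul]
  have hc3 : c ^ 3 = u g x 1 := by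
    rw [hc, c1r4.mul_pow, pow_succ (u g x 1), pow_two (u g x 1), sq, one_mul, ← pow_mul,
      show 4 * 3 = 6 * 2 from rfl, pow_mul, r6, one_pow, one_mul]
  have hc6 : c ^ 6 = 1 := by
    rw [show 6 = 3 * 2 from rfl, pow_mul, hc3, pow_two, sq]
  have hoc : orderOf c = 6 := by
    apply orderOf_eq_of_pow_and_pow_div_prime (by norm_num) hc6
    intro p hp hp6
    have hp' : p = 2 ∨ p = 3 := by
      have : p ∣ 2 * 3 := hp6
      rcases (Nat.Prime.dvd_mul hp).1 this with h1 | h1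
      · left; exact (Nat.prime_dvd_prime_iff_eq hp Nat.prime_two).1 h1
      · right; exact (Nat.prime_dvd_prime_iff_eq hp Nat.prime_three).1 h1
    rcases hp' with rfl | rfl
    · rw [show 6 / 2 = 3 from rfl, hc3]; exact ne1 1
    · rw [show 6 / 3 = 2 from rfl, hc2]; exact hr2
  have hinvc : u g x 0 * c * (u g x 0)⁻¹ = c⁻¹ := by
    have h1 : u g x 0 * (r ^ 4) * (u g x 0)⁻¹ = (r ^ 4)⁻¹ := by rw [← conj_pow, hinv, inv_pow]
    have h2 : u g x 0 * u g x 1 * (u g x 0)⁻¹ = u g x 1 := by rw [c01.eq, mul_inv_cancel_right]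
    calc u g x 0 * c * (u g x 0)⁻¹ = (u g x 0 * (r ^ 4) * (u g x 0)⁻¹) * (u g x 0 * u g x 1 * (u g x 0)⁻¹) := by
          rw [hc]; group
      _ = (r ^ 4)⁻¹ * u g x 1 := by rw [h1, h2]
      _ = u g x 1 * (r ^ 4)⁻¹ := by rw [c1r4.inv_left.eq]
      _ = c⁻¹ := by rw [hc, mul_inv_rev, iv]
  refine Cfsg.Agent.H20.dihedral_equiv (N := 6) (x := c) (s := u g x 0) (Sg g x 0 3) hoc (sq 0) hinvc ?_
    (mul_mem (pow_mem mr _) m1) m0 (by rw [hcard])
  intro hm
  obtain ⟨j, hj⟩ := mem_zpowers_iff.1 hm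
  have h1 : Commute (u g x 0) c := by rw [← hj]; exact (Commute.refl c).zpow_left j
  rw [h1.eq, mul_inv_cancel_right] at hinvc
  have h2 : c ^ 2 = 1 := by
    rw [pow_two]
    nth_rewrite 1 [hinvc]
    exact inv_mul_cancel c
  rw [hc2] at h2
  exact hr2 h2

end Cfsg.Agent.H20.GIso
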