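import Mathlib
import Cfsg.Agent.H20.GIsoL

/-!
The type theorem (S3685, S4385). Owner: helper20.
-/

set_option autoImplicit false
set_option maxHeartbeats 800000

namespace Cfsg.Agent.H20.GIso

open Subgroup

variable {G : Type*} [Group G] [Finite G] {g x : G}

theorem info2 (h : GS g x 2 2) : ∀ k < 2, Commute (u g x 0) (u g x k) := by
  haveI : Fact (Nat.Prime 2) := ⟨Nat.prime_two⟩
  obtain ⟨s, hs0, hst, hC, hnC⟩ := exists_s h (by norm_num)
  rcases Nat.lt_or_ge s 2 with h2 | h2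
  · have := (y_mem h hs0 h2 hC (hnC h2)).2.2
    omega
  · have : s = 2 := by omega
    subst this; exact hC

theorem info3 (h : GS g x 2 3) (hZ : ∀ z ∈ Sg g x 0 3, (∀ w ∈ Sg g x 0 5, z * w = w * z) → z = 1) :
    (∀ k < 2, Commute (u g x 0) (u g x k)) ∧ u g x 0 * u g x 2 * u g x 0 * u g x 2 = u g x 1 := by
  haveI : Fact (Nat.Prime 2) := ⟨Nat.prime_two⟩
  have ht : 1 ≤ 3 := by norm_num
  obtain ⟨s, hs0, hst, hC, hnC⟩ := exists_s h ht
  have hcb := center_bound h ht (n := 2) hs0 hst hC hZ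
  have hnC' := hnC (by omega)
  have hy := y_mem h hs0 (by omega) hC hnC'
  have h2 : s = 2 := by omega
  subst h2
  refine ⟨hC, ?_⟩
  have hm := hy.1
  rw [u_inv h ht, u_inv h ht] at hm
  rcases mem_single h ht (i := 1) hm with h1 | h1
  · exfalso
    apply hnC'
    change u g x 0 * u g x 2 = u g x 2 * u g x 0
    have h2 : u g x 0 * u g x 2 * (u g x 0 * u g x 2) = 1 := by rw [← h1]; group
    have h3 := eq_inv_of_mul_eq_one_left h2
    rw [mul_inv_rev, u_inv h ht, u_inv h ht] at h3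
    exact h3
  · exact h1

theorem info4 (h : GS g x 2 4) (hZ : ∀ z ∈ Sg g x 0 4, (∀ w ∈ Sg g x 0 6, z * w = w * z) → z = 1)
    {n : ℕ} (hn : Odd n) (hcard : Nat.card (Sg g x 0 5) = n * 16) :
    (∀ k < 3, Commute (u g x 0) (u g x k)) ∧ u g x 0 * u g x 3 * u g x 0 * u g x 3 = u g x 1 * u g x 2 := by
  haveI : Fact (Nat.Prime 2) := ⟨Nat.prime_two⟩
  have ht : 1 ≤ 4 := by norm_num
  obtain ⟨s, hs0, hst, hC, hnC⟩ := exists_s h ht
  have hcb := center_bound h ht (n := 2) hs0 hst hC hZ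
  have hnC' := hnC (by omega)
  have hy := y_mem h hs0 (by omega) hC hnC'
  have h2 : s = 3 := by omega
  subst h2
  exact ⟨hC, comm4 h hC hnC' hy.1 hn hcard⟩

/-- the quotient by the odd core -/
theorem quot_equiv {L M : Type*} [Group L] [Finite L] [Group M] {f : L →* M} (hf : Function.Surjective f)
    (ho : (Nat.card f.ker).Coprime 2) (hN : ∀ N : Subgroup L, N.Normal → (Nat.card N).Coprime 2 → N ≤ f.ker) :
    Nonempty (L ⧸ Cfsg.oddCore L ≃* M) := by
  have hcore := oddCore_eq inferInstance ho hN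
  exact ⟨(QuotientGroup.quotientMulEquivOfEq hcore).trans (QuotientGroup.quotientKerEquivOfSurjective f hf)⟩

theorem types {t : ℕ} (h : GS g x 2 t) (ht2 : 2 ≤ t) (ht4 : t ≤ 4)
    (hZ : ∀ z ∈ Sg g x 0 t, (∀ w ∈ Sg g x 0 (t + 2), z * w = w * z) → z = 1)
    {n : ℕ} (hn : Odd n) (hcard : Nat.card (Sg g x 0 (t + 1)) = n * 2 ^ t) :
    (Nonempty (↥(Sg g x 0 (t + 1)) ⧸ Cfsg.oddCore ↥(Sg g x 0 (t + 1)) ≃*
      Multiplicative (ZMod 2) × Multiplicative (ZMod 2)) ∨
     Nonempty (↥(Sg g x 0 (t + 1)) ⧸ Cfsg.oddCore ↥(Sg g x 0 (t + 1)) ≃* Equiv.Perm (Fin 4)) ∨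
     Nonempty (↥(Sg g x 0 (t + 1)) ⧸ Cfsg.oddCore ↥(Sg g x 0 (t + 1)) ≃*
      Equiv.Perm (Fin 4) × Multiplicative (ZMod 2))) := by
  interval_cases t
  · left
    exact struct2 h (info2 h) hn hcard
  · right; left
    obtain ⟨hC, h02⟩ := info3 h hZ
    obtain ⟨f, hf, ho, hN⟩ := struct3 h hC h02 hn hcard
    exact quot_equiv hf ho hN
  · right; right
    obtain ⟨hC, h03⟩ := info4 h hZ hn hcard
    obtain ⟨f, hf, ho, hN⟩ := struct4 h hC h03 hn hcard
    exact quot_equiv hf ho hN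

theorem bij_of {L M : Type*} [Group L] [Finite L] [Group M] {f : L →* M} (hf : Function.Surjective f)
    (hc : Nat.card L = Nat.card M) : Nonempty (L ≃* M) := by
  refine ⟨MulEquiv.ofBijective f ((Nat.bijective_iff_surjective_and_card f).2 ⟨hf, hc⟩)⟩

/-- the case `t = 1` -/
theorem struct1 (h : GS g x 2 1) (hcard : Nat.card (Sg g x 0 2) = 6) :
    Nonempty (↥(Sg g x 0 2) ≃* Equiv.Perm (Fin 3)) := by
  have ht : 1 ≤ 1 := le_rfl
  have sq := u_sq h ht
  have m0 : u g x 0 ∈ Sg g x 0 2 := mem_Sg g x le_rfl (by norm_num)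
  have m1 : u g x 1 ∈ Sg g x 0 2 := mem_Sg g x (by norm_num) (by norm_num)
  have hTH : Sg g x 0 1 ≤ Sg g x 0 2 := Sg_mono g x le_rfl (by norm_num)
  have cT : Nat.card (Sg g x 0 1) = 2 := by rw [card_Sg h (by norm_num) (by norm_num)]; norm_num
  set D := (Sg g x 0 1).subgroupOf (Sg g x 0 2) with hD
  have hidx : D.index = 3 := by
    have h1 := Cfsg.Agent.H11.card_mul_relIndex hTH
    rw [cT, hcard] at h1
    change (Sg g x 0 1).relIndex (Sg g x 0 2) = 3
    omega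
  have hcore : D.normalCore = ⊥ := by
    by_contra hne
    have h1 : D.normalCore = D := by
      apply Subgroup.eq_of_le_of_card_ge (normalCore_le _)
      have hcD : Nat.card D = 2 := by rw [hD, Nat.card_congr (subgroupOfEquivOfLe hTH).toEquiv, cT]
      have h2 : Nat.card D.normalCore ∣ 2 := (card_dvd_of_le (normalCore_le D)).trans (dvd_of_eq hcD)
      rcases (Nat.dvd_prime Nat.prime_two).1 h2 with h3 | h3
      · exact absurd (eq_bot_of_card_eq _ h3) hne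
      · rw [h3, hcD]
    have h2 : D.Normal := h1 ▸ normalCore_normal D
    have h3 : Sg g x 0 2 ≤ normalizer ((Sg g x 0 1 : Subgroup G) : Set G) :=
      (normal_subgroupOf_iff_le_normalizer hTH).1 h2
    have h4 := card_sup_dvd (A := Sg g x 1 2) (B := Sg g x 0 1) ((Sg_mono g x (by norm_num) le_rfl).trans h3)
    rw [sup_comm, Sg_sup g x (a := 0) (b := 1) (c := 2) (by norm_num) (by norm_num), hcard, cT,
      card_Sg h (a := 1) (b := 2) (by norm_num) (by norm_num)] at h4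
    norm_num at h4
  have hc : Nat.card (↥(Sg g x 0 2) ⧸ D) = 3 := hidx
  let e : ↥(Sg g x 0 2) ⧸ D ≃ Fin 3 := Finite.equivFinOfCardEq hc
  let f : ↥(Sg g x 0 2) →* Equiv.Perm (Fin 3) :=
    e.permCongrHom.toMonoidHom.comp (MulAction.toPermHom ↥(Sg g x 0 2) (↥(Sg g x 0 2) ⧸ D))
  have hinj : Function.Injective f := by
    rw [injective_iff_map_eq_one]
    intro y hy
    have h1 : MulAction.toPermHom ↥(Sg g x 0 2) (↥(Sg g x 0 2) ⧸ D) y = 1 := by
      have : e.permCongrHom (MulAction.toPermHom ↥(Sg g x 0 2) (↥(Sg g x 0 2) ⧸ D) y) = 1 := hy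
      rwa [map_eq_one_iff _ e.permCongrHom.injective] at this
    have h2 : y ∈ (MulAction.toPermHom ↥(Sg g x 0 2) (↥(Sg g x 0 2) ⧸ D)).ker := h1
    rw [← normalCore_eq_ker, hcore, mem_bot] at h2
    exact h2
  have hcc : Nat.card ↥(Sg g x 0 2) = Nat.card (Equiv.Perm (Fin 3)) := by
    rw [hcard, Nat.card_perm, Nat.card_fin]; rfl
  exact ⟨MulEquiv.ofBijective f ((Nat.bijective_iff_injective_and_card f).2 ⟨hinj, hcc⟩)⟩

theorem types3 {t : ℕ} (h : GS g x 2 t) (ht1 : 1 ≤ t) (ht4 : t ≤ 4)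
    (hZ : ∀ z ∈ Sg g x 0 t, (∀ w ∈ Sg g x 0 (t + 2), z * w = w * z) → z = 1)
    (hcard : Nat.card (Sg g x 0 (t + 1)) = 3 * 2 ^ t) :
    Nonempty (↥(Sg g x 0 (t + 1)) ≃* Equiv.Perm (Fin 3)) ∨ Nonempty (↥(Sg g x 0 (t + 1)) ≃* DihedralGroup 6) ∨
    Nonempty (↥(Sg g x 0 (t + 1)) ≃* Equiv.Perm (Fin 4)) ∨
    Nonempty (↥(Sg g x 0 (t + 1)) ≃* Equiv.Perm (Fin 4) × Multiplicative (ZMod 2)) := by
  have hn : Odd 3 := ⟨1, rfl⟩
  interval_cases t
  · left
    exact struct1 h hcard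
  · right; left
    exact struct2' h (info2 h) hcard
  · right; right; left
    obtain ⟨hC, h02⟩ := info3 h hZ
    obtain ⟨f, hf, -, -⟩ := struct3 h hC h02 hn hcard
    exact bij_of hf (by rw [hcard, Nat.card_perm, Nat.card_fin]; rfl)
  · right; right; right
    obtain ⟨hC, h03⟩ := info4 h hZ hn hcard
    obtain ⟨f, hf, -, -⟩ := struct4 h hC h03 hn hcard
    exact bij_of hf (by
      rw [hcard, Nat.card_prod, Nat.card_congr Multiplicative.toAdd, Nat.card_zmod, Nat.card_perm, Nat.card_fin]; rfl)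

end Cfsg.Agent.H20.GIso
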