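import Cfsg.Prelude
import Mathlib

set_option autoImplicit false

/-!
S4990: the definition shared by the pieces.
-/

namespace Cfsg.Agent.H20.Kb

universe u

/-- there is a vector `v` and a nondegenerate form invariant under the stabiliser of `v` -/
def RealV {p : ℕ} {F V : Type u} [Group F] [AddCommGroup V] [Module (ZMod p) V] (ρ : F →* (V →ₗ[ZMod p] V)) : Prop :=
  ∃ (v : V) (β : V →ₗ[ZMod p] V →ₗ[ZMod p] ZMod p), (∀ u, (∀ w, β u w = 0) → u = 0) ∧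
    ∀ g, ρ g v = v → ∀ u w, β (ρ g u) (ρ g w) = β u w

/-- a decomposition into proper summands permuted transitively by `F` -/
def Blocks {p : ℕ} {F V : Type u} [Group F] [AddCommGroup V] [Module (ZMod p) V] (ρ : F →* (V →ₗ[ZMod p] V)) : Prop :=
  ∃ (k : ℕ) (W : Fin k → Submodule (ZMod p) V), DirectSum.IsInternal W ∧ (∀ i, W i ≠ ⊥ ∧ W i ≠ ⊤) ∧
    (∀ g i, ∃ j, (W i).map (ρ g) = W j) ∧ ∀ i j, ∃ g, (W i).map (ρ g) = W j

/-- irreducibility -/
def IrrV {p : ℕ} {F V : Type u} [Group F] [AddCommGroup V] [Module (ZMod p) V] (ρ : F →* (V →ₗ[ZMod p] V)) : Prop :=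
  ∀ W : Submodule (ZMod p) V, (∀ g, ∀ w ∈ W, ρ g w ∈ W) → W = ⊥ ∨ W = ⊤

end Cfsg.Agent.H20.Kb
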