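import Mathlib
import Cfsg.Agent.MaxClass.UniqueOrderP
import Cfsg.Agent.Cop.GenAb
import Cfsg.Agent.S5112
import Cfsg.Agent.S2879

/-!
Odd order automorphisms of 2-groups with at most one involution (quaternion group of order 8).
Owner: helper20.
-/

set_option autoImplicit false

namespace Cfsg.Agent.H20.QAct

open Cfsg.Agent.Cop
open scoped commutatorElement

section abstract

variable {Q : Type*} [Group Q] [Finite Q]

theorem isPGroup_mulAut_cyclic (hQ : IsPGroup 2 Q) (hc : IsCyclic Q) : IsPGroup 2 (MulAut Q) := by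
  obtain ⟨n, hn⟩ := IsPGroup.iff_card.1 hQ
  have h1 : Nat.card (MulAut Q) = Nat.totient (2 ^ n) := by rw [← hn]; exact IsCyclic.card_mulAut Q
  rcases Nat.eq_zero_or_pos n with h0 | h0
  · subst h0
    exact IsPGroup.of_card (n := 0) (by rw [h1]; rfl)
  · exact IsPGroup.of_card (n := n - 1) (by
      rw [h1, Nat.totient_prime_pow Nat.prime_two h0]; simp)

/-- a 2-group with at most one involution having a nontrivial automorphism of odd order is `Q₈`. -/
theorem equiv_q8 (hQ : IsPGroup 2 Q) (h1 : ∀ x y : Q, orderOf x = 2 → orderOf y = 2 → x = y)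
    {p : ℕ} [hp : Fact p.Prime] (hp2 : p ≠ 2) (E : Subgroup (MulAut Q)) (hE : IsPGroup p E) (hne : E ≠ ⊥) :
    Nonempty (Q ≃* QuaternionGroup 2) := by
  haveI : Fact (Nat.Prime 2) := ⟨Nat.prime_two⟩
  have key : ¬ IsPGroup 2 (MulAut Q) := by
    intro h
    apply hne
    have h2 : IsPGroup 2 E := h.to_subgroup E
    have h3 := IsPGroup.disjoint_of_ne p 2 hp2 E E hE h2
    exact disjoint_self.1 h3
  rcases MaxClass.cyclic_or_quaternion hQ (by
    intro H K hH hK
    obtain ⟨x, hx⟩ := exists_prime_orderOf_dvd_card' (G := H) 2 (by rw [hH])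
    obtain ⟨y, hy⟩ := exists_prime_orderOf_dvd_card' (G := K) 2 (by rw [hK])
    have hxy : (x : Q) = y := h1 _ _ (by rw [Subgroup.orderOf_coe]; exact hx) (by rw [Subgroup.orderOf_coe]; exact hy)
    have e1 : Subgroup.zpowers (x : Q) = H := by
      apply Subgroup.eq_of_le_of_card_ge
      · rw [Subgroup.zpowers_le]; exact x.2
      · rw [Nat.card_zpowers, Subgroup.orderOf_coe, hx, hH]
    have e2 : Subgroup.zpowers (y : Q) = K := by
      apply Subgroup.eq_of_le_of_card_ge
      · rw [Subgroup.zpowers_le]; exact y.2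
      · rw [Nat.card_zpowers, Subgroup.orderOf_coe, hy, hK]
    rw [← e1, ← e2, hxy]) with h | ⟨-, n, ⟨e⟩⟩
  · exact absurd (isPGroup_mulAut_cyclic hQ h) key
  · rcases Nat.lt_or_ge n 2 with h | h
    · interval_cases n
      · exfalso
        apply key
        apply isPGroup_mulAut_cyclic hQ
        have : IsCyclic (QuaternionGroup (2 ^ 0)) := QuaternionGroup.quaternionGroup_one_isCyclic
        exact isCyclic_of_surjective e.symm e.symm.surjective
      · exact ⟨e⟩
    · exfalso
      apply key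
      have h5 := S5112.isPGroup_mulAut_quaternion n h
      exact h5.of_equiv (MulAut.congr e).symm

theorem card3 (e : Q ≃* QuaternionGroup 2) {p : ℕ} [hp : Fact p.Prime] (hp2 : p ≠ 2)
    (E : Subgroup (MulAut Q)) (hE : IsPGroup p E) (hne : E ≠ ⊥) : p = 3 ∧ Nat.card E = 3 := by
  have h24 : Nat.card E ∣ 24 := by
    rw [← S2879.card_mulAut_quat, ← Nat.card_congr (MulAut.congr e).toEquiv]
    exact Subgroup.card_subgroup_dvd_card E
  obtain ⟨k, hk⟩ := IsPGroup.iff_card.1 hE
  have hk0 : k ≠ 0 := by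
    rintro rfl
    apply hne
    exact Subgroup.eq_bot_of_card_eq E (by simpa using hk)
  have hp24 : p ∣ 24 := (dvd_pow_self p hk0).trans (hk ▸ h24)
  have hp3 : p = 3 := by
    have h1 : p ∣ 2 ^ 3 * 3 := by simpa using hp24
    rcases (Nat.Prime.dvd_mul hp.out).1 h1 with h | h
    · exact absurd ((Nat.prime_dvd_prime_iff_eq hp.out Nat.prime_two).1 (hp.out.dvd_of_dvd_pow h)) hp2
    · exact (Nat.prime_dvd_prime_iff_eq hp.out Nat.prime_three).1 h
  refine ⟨hp3, ?_⟩
  subst hp3
  have hk1 : k < 2 := by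
    by_contra hcon
    have : 3 ^ 2 ∣ 24 := (pow_dvd_pow 3 (by omega : 2 ≤ k)).trans (hk ▸ h24)
    omega
  have : k = 1 := by omega
  rw [hk, this, pow_one]

theorem card_modEq {e : MulAut Q} (h3 : e ^ 3 = 1) (X : Subgroup Q) (hX : ∀ x ∈ X, e x ∈ X) :
    Nat.card X ≡ Nat.card (X ⊓ fixSub e : Subgroup Q) [MOD 3] := by
  classical
  haveI : Fact (Nat.Prime 3) := ⟨Nat.prime_three⟩
  haveI : Fintype X := Fintype.ofFinite _
  let f : Function.End X := fun x => ⟨e x, hX x x.2⟩
  have hf : f ^ 3 ^ 1 = 1 := by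
    rw [pow_one]
    funext x
    apply Subtype.ext
    have : ((f ^ 3) x : Q) = e (e (e x)) := rfl
    rw [this]
    have h4 := congrArg (fun g : MulAut Q => g (x : Q)) h3
    exact h4
  have h5 := Equiv.Perm.card_fixedPoints_modEq (α := X) (f := f) hf
  rw [← Nat.card_eq_fintype_card, ← Nat.card_eq_fintype_card] at h5
  have h6 : Nat.card (Function.fixedPoints f) = Nat.card (X ⊓ fixSub e : Subgroup Q) := by
    apply Nat.card_congr
    refine ⟨fun x => ⟨x.1.1, x.1.2, congrArg Subtype.val x.2⟩, fun x => ⟨⟨x.1, x.2.1⟩, Subtype.ext x.2.2⟩, ?_, ?_⟩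
    · intro x; rfl
    · intro x; rfl
  rw [← h6]
  exact h5

theorem q8_comm : ∀ x y w : QuaternionGroup 2, ⁅x, y⁆ * w = w * ⁅x, y⁆ := by decide

theorem q8_sq : ∀ x w : QuaternionGroup 2, x * x * w = w * (x * x) := by decide

theorem q8_card : Nat.card (QuaternionGroup 2) = 8 := by
  rw [Nat.card_eq_fintype_card]; rfl

theorem q8_center {x : QuaternionGroup 2} (h : ∀ w, x * w = w * x) : x = 1 ∨ x = QuaternionGroup.a 2 := by
  revert x
  decide

/-- the involution -/
theorem exists_inv (e : Q ≃* QuaternionGroup 2) : ∃ z : Q, z ≠ 1 ∧ z * z = 1 ∧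
    (∀ x : Q, z * x = x * z) ∧ (∀ x : Q, (∀ w, x * w = w * x) → x = 1 ∨ x = z) ∧
    (∀ x y : Q, ⁅x, y⁆ = 1 ∨ ⁅x, y⁆ = z) ∧ (∀ x : Q, x * x = 1 ∨ x * x = z) ∧
    (∃ x y : Q, ⁅x, y⁆ ≠ 1) ∧ Nat.card Q = 8 ∧ (∀ x : Q, orderOf x = 2 → x = z) := by
  have hz : ∀ x : Q, (∀ w, x * w = w * x) → x = 1 ∨ x = e.symm (QuaternionGroup.a 2) := by
    intro x hx
    rcases q8_center (x := e x) (fun w => by
      have := congrArg e (hx (e.symm w))
      simpa using this) with h | h
    · left; simpa using h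
    · right; rw [← h]; simp
  refine ⟨e.symm (QuaternionGroup.a 2), ?_, ?_, ?_, hz, ?_, ?_, ?_, ?_, ?_⟩
  · intro h
    have h1 := congrArg e h
    simp only [MulEquiv.apply_symm_apply, map_one] at h1
    revert h1
    decide
  · rw [← map_mul]
    have : (QuaternionGroup.a 2 : QuaternionGroup 2) * QuaternionGroup.a 2 = 1 := by decide
    rw [this, map_one]
  · intro x
    apply e.injective
    rw [map_mul, map_mul, e.apply_symm_apply]
    generalize e x = y
    revert y
    decide
  · intro x y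
    apply hz
    intro w
    apply e.injective
    rw [map_mul, map_mul, map_commutatorElement]
    exact q8_comm _ _ _
  · intro x
    apply hz
    intro w
    apply e.injective
    simp only [map_mul]
    exact q8_sq _ _
  · refine ⟨e.symm (QuaternionGroup.a 1), e.symm (QuaternionGroup.xa 0), ?_⟩
    intro h
    rw [← map_commutatorElement] at h
    have h1 := congrArg e h
    simp only [MulEquiv.apply_symm_apply, map_one] at h1
    revert h1
    decide
  · rw [Nat.card_congr e.toEquiv, q8_card]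
  · intro x hx
    have h1 : x * x = 1 := by rw [← pow_two, ← hx]; exact pow_orderOf_eq_one x
    have h2 : x ≠ 1 := by
      intro h
      rw [h, orderOf_one] at hx
      omega
    have h3 : e x * e x = 1 := by rw [← map_mul, h1, map_one]
    have h4 : e x ≠ 1 := by
      intro h
      exact h2 (by simpa using h)
    have h5 : e x = QuaternionGroup.a 2 := by
      revert h3 h4
      generalize e x = y
      revert y
      decide
    rw [← h5]; simp

/-- fixed points of an automorphism of order 3 and invariant subgroups. -/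
theorem order3 (q : Q ≃* QuaternionGroup 2) {e : MulAut Q} (h3 : e ^ 3 = 1) (hne : e ≠ 1) {z : Q}
    (hz1 : z ≠ 1) (hzz : z * z = 1) (huq : ∀ x : Q, orderOf x = 2 → x = z) :
    (∀ x : Q, e x = x → x = 1 ∨ x = z) ∧
    (∀ X : Subgroup Q, (∀ x ∈ X, e x ∈ X) → (∀ x ∈ X, x = 1 ∨ x = z) ∨ X = ⊤) := by
  have hcard : Nat.card Q = 8 := by rw [Nat.card_congr q.toEquiv, q8_card]
  have hzo : orderOf z = 2 := orderOf_eq_prime (by rw [pow_two, hzz]) hz1
  have hez : e z = z := huq _ (by rw [MulEquiv.orderOf_eq]; exact hzo)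
  have hfix : Nat.card (fixSub e) = 2 := by
    have h1 := card_modEq h3 (⊤ : Subgroup Q) (fun _ _ => Subgroup.mem_top _)
    rw [top_inf_eq, Subgroup.card_top, hcard] at h1
    have h2 : Nat.card (fixSub e) ∣ 2 ^ 3 := by
      have := Subgroup.card_subgroup_dvd_card (fixSub e)
      rwa [hcard] at this
    obtain ⟨k, hk, hk2⟩ := (Nat.dvd_prime_pow Nat.prime_two).1 h2
    rw [hk2] at h1 ⊢
    interval_cases k
    · exact absurd h1 (by decide)
    · rfl
    · exact absurd h1 (by decide)
    · exfalso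
      apply hne
      have h3 : fixSub e = ⊤ := Subgroup.eq_top_of_card_eq _ (by rw [hk2, hcard]; rfl)
      ext x
      have : x ∈ fixSub e := by rw [h3]; exact Subgroup.mem_top x
      exact this
  have hfz : ∀ x : Q, e x = x → x = 1 ∨ x = z := by
    intro x hx
    by_cases h1 : x = 1
    · exact Or.inl h1
    · right
      apply huq
      have h2 : orderOf (⟨x, hx⟩ : fixSub e) ∣ 2 := by rw [← hfix]; exact orderOf_dvd_natCard _
      have h3 : orderOf x ∣ 2 := by
        have : orderOf (⟨x, hx⟩ : fixSub e) = orderOf x := (Subgroup.orderOf_coe _).symm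
        rwa [this] at h2
      rcases (Nat.dvd_prime Nat.prime_two).1 h3 with h | h
      · exact absurd (orderOf_eq_one_iff.1 h) h1
      · exact h
  refine ⟨hfz, ?_⟩
  intro X hX
  have h1 := card_modEq h3 X hX
  have h2 : Nat.card X ∣ 2 ^ 3 := by
    have := Subgroup.card_subgroup_dvd_card X
    rwa [hcard] at this
  obtain ⟨k, hk, hk2⟩ := (Nat.dvd_prime_pow Nat.prime_two).1 h2
  have hord : ∀ x ∈ X, orderOf x ∣ 2 ^ k := by
    intro x hx
    have h4 : orderOf (⟨x, hx⟩ : X) ∣ Nat.card X := orderOf_dvd_natCard _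
    rw [hk2] at h4
    have : orderOf (⟨x, hx⟩ : X) = orderOf x := (Subgroup.orderOf_coe _).symm
    rwa [this] at h4
  have hsmall : k ≤ 1 → ∀ x ∈ X, x = 1 ∨ x = z := by
    intro hk1 x hx
    by_cases h5 : x = 1
    · exact Or.inl h5
    · right
      apply huq
      have h6 : orderOf x ∣ 2 := (hord x hx).trans (by
        have := pow_dvd_pow 2 hk1
        simpa using this)
      rcases (Nat.dvd_prime Nat.prime_two).1 h6 with h | h
      · exact absurd (orderOf_eq_one_iff.1 h) h5
      · exact h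
  rcases Nat.lt_or_ge k 2 with hk1 | hk1
  · exact Or.inl (hsmall (by omega))
  · right
    have hzX : z ∈ X := by
      haveI : Fact (Nat.Prime 2) := ⟨Nat.prime_two⟩
      obtain ⟨x, hx⟩ := exists_prime_orderOf_dvd_card' (G := X) 2 (by
        rw [hk2]; exact dvd_pow_self 2 (by omega))
      have := huq x (by rw [Subgroup.orderOf_coe]; exact hx)
      rw [← this]; exact x.2
    have hlt : k ≠ 2 := by
      rintro rfl
      have h7 : fixSub e ≤ X := by
        intro x hx
        rcases hfz x hx with h | h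
        · rw [h]; exact one_mem _
        · rw [h]; exact hzX
      rw [inf_eq_right.2 h7, hfix, hk2] at h1
      exact absurd h1 (by decide)
    have : k = 3 := by omega
    apply Subgroup.eq_top_of_card_eq
    rw [hk2, this, hcard]
    rfl

end abstract

section action

variable {W : Type*} [Group W] [Finite W]

/-- restriction of automorphisms to an invariant subgroup -/
def resHom (E : Subgroup (MulAut W)) (X : Subgroup W) (hX : ∀ e ∈ E, ∀ x ∈ X, e x ∈ X) :
    E →* MulAut X where
  toFun e :=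
    { toFun := fun x => ⟨(e : MulAut W) x, hX e e.2 x x.2⟩
      invFun := fun x => ⟨((e⁻¹ : E) : MulAut W) x, hX _ (e⁻¹).2 x x.2⟩
      left_inv := by
        intro x
        apply Subtype.ext
        change ((e : MulAut W)⁻¹) ((e : MulAut W) x) = x
        simp
      right_inv := by
        intro x
        apply Subtype.ext
        change (e : MulAut W) (((e : MulAut W)⁻¹) x) = x
        simp
      map_mul' := by
        intro x y
        apply Subtype.ext
        exact map_mul (e : MulAut W) (x : W) y }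
  map_one' := by
    ext x
    rfl
  map_mul' := by
    intro e f
    ext x
    rfl

theorem resHom_coe (E : Subgroup (MulAut W)) (X : Subgroup W) (hX : ∀ e ∈ E, ∀ x ∈ X, e x ∈ X)
    (e : E) (x : X) : (resHom E X hX e x : W) = (e : MulAut W) x := rfl

/-- generation of invariant subgroups by fixed points -/
theorem gen_inv (E : Subgroup (MulAut W)) (hab : IsMulCommutative E) (hnc : ¬ IsCyclic E)
    (hcop : (Nat.card E).Coprime (Nat.card W)) (X : Subgroup W) (hX : ∀ e ∈ E, ∀ x ∈ X, e x ∈ X)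
    (T : Subgroup W) (hT : ∀ e ∈ E, e ≠ 1 → X ⊓ fixSub e ≤ T) : X ≤ T := by
  by_cases hinj : Function.Injective (resHom E X hX)
  · have h1 : (Nat.card (resHom E X hX).range).Coprime (Nat.card X) := by
      have e1 : Nat.card (resHom E X hX).range = Nat.card E :=
        (Nat.card_congr (MonoidHom.ofInjective hinj).toEquiv).symm
      rw [e1]
      exact hcop.coprime_dvd_right (Subgroup.card_subgroup_dvd_card X)
    have h2 : ¬ IsCyclic (resHom E X hX).range := by
      intro h
      apply hnc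
      exact isCyclic_of_surjective (MonoidHom.ofInjective hinj).symm (MonoidHom.ofInjective hinj).symm.surjective
    have h3 : IsMulCommutative (resHom E X hX).range := by
      refine ⟨⟨?_⟩⟩
      rintro ⟨a, a', rfl⟩ ⟨b, b', rfl⟩
      apply Subtype.ext
      change resHom E X hX a' * resHom E X hX b' = resHom E X hX b' * resHom E X hX a'
      rw [← map_mul, ← map_mul, hab.1.1 a' b']
    have h4 := gen_fix _ h3 h2 h1
    have h5 : (⊤ : Subgroup X) ≤ T.subgroupOf X := by
      rw [← h4]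
      refine iSup₂_le ?_
      rintro α ⟨⟨e, rfl⟩, hα⟩
      intro x hx
      rw [Subgroup.mem_subgroupOf]
      have he : (e : MulAut W) ≠ 1 := by
        intro h
        apply hα
        have : e = 1 := Subtype.ext h
        rw [this, map_one]
      apply hT e e.2 he
      refine ⟨x.2, ?_⟩
      have h6 : resHom E X hX e x = x := hx
      exact congrArg Subtype.val h6
    intro x hx
    exact h5 (Subgroup.mem_top (⟨x, hx⟩ : X))
  · have hk : ∃ e : E, resHom E X hX e = 1 ∧ e ≠ 1 := by
      by_contra hcon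
      push Not at hcon
      exact hinj ((injective_iff_map_eq_one _).2 hcon)
    obtain ⟨e, he, he1⟩ := hk
    have he2 : (e : MulAut W) ≠ 1 := fun h => he1 (Subtype.ext h)
    intro x hx
    apply hT e e.2 he2
    refine ⟨hx, ?_⟩
    have h6 := congrArg (fun g : MulAut X => g (⟨x, hx⟩ : X)) he
    exact congrArg Subtype.val h6

/-- the kernel of `E` on `Q` -/
def ker (E : Subgroup (MulAut W)) (Q : Subgroup W) : Subgroup (MulAut W) where
  carrier := {e | e ∈ E ∧ ∀ x ∈ Q, e x = x}
  one_mem' := ⟨E.one_mem, fun _ _ => rfl⟩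
  mul_mem' := by
    rintro a b ⟨ha, ha'⟩ ⟨hb, hb'⟩
    refine ⟨E.mul_mem ha hb, fun x hx => ?_⟩
    rw [MulAut.mul_apply, hb' x hx, ha' x hx]
  inv_mem' := by
    rintro a ⟨ha, ha'⟩
    refine ⟨E.inv_mem ha, fun x hx => ?_⟩
    have := ha' x hx
    calc a⁻¹ x = a⁻¹ (a x) := by rw [this]
      _ = x := by simp

/-- what we need to know about the noncentralized fixed point subgroups -/
structure QD (E : Subgroup (MulAut W)) (Q : Subgroup W) (z : W) : Prop where
  card : Nat.card Q = 8
  zmem : z ∈ Q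
  zne : z ≠ 1
  zsq : z * z = 1
  uniq : ∀ x ∈ Q, orderOf x = 2 → x = z
  comm : ∀ x ∈ Q, ∀ y ∈ Q, ⁅x, y⁆ = 1 ∨ ⁅x, y⁆ = z
  sq : ∀ x ∈ Q, x * x = 1 ∨ x * x = z
  nab : ∃ x ∈ Q, ∃ y ∈ Q, ⁅x, y⁆ ≠ 1
  cen : ∀ x ∈ Q, z * x = x * z
  fixz : ∀ e ∈ E, e z = z
  fix : ∀ e ∈ E, (∃ x ∈ Q, e x ≠ x) → ∀ x ∈ Q, e x = x → x = 1 ∨ x = z
  inv : ∀ e ∈ E, (∃ x ∈ Q, e x ≠ x) → ∀ X ≤ Q, (∀ x ∈ X, e x ∈ X) → (∀ x ∈ X, x = 1 ∨ x = z) ∨ X = Q
  cube : ∀ e ∈ E, ∀ x ∈ Q, e (e (e x)) = x
  idx : Nat.card E = 3 * Nat.card (ker E Q)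

theorem qd_of (hW : IsPGroup 2 W) {p : ℕ} [Fact p.Prime] (hp : p ≠ 2) (E : Subgroup (MulAut W))
    (hE : IsPGroup p E) (Q : Subgroup W) (hQE : ∀ e ∈ E, ∀ x ∈ Q, e x ∈ Q)
    (h1 : ∀ x ∈ Q, ∀ y ∈ Q, orderOf x = 2 → orderOf y = 2 → x = y)
    (hne : ∃ e ∈ E, ∃ x ∈ Q, e x ≠ x) : p = 3 ∧ ∃ z, QD E Q z := by
  set f := resHom E Q hQE with hf
  have hfne : ∀ e : E, (∃ x ∈ Q, (e : MulAut W) x ≠ x) → f e ≠ 1 := by
    rintro e ⟨x, hx, hex⟩ h
    apply hex
    have h6 := congrArg (fun g : MulAut Q => g (⟨x, hx⟩ : Q)) h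
    exact congrArg Subtype.val h6
  have hR : IsPGroup p f.range := hE.of_surjective f.rangeRestrict f.rangeRestrict_surjective
  have hRne : f.range ≠ ⊥ := by
    obtain ⟨e, he, x, hx, hex⟩ := hne
    intro h
    apply hfne ⟨e, he⟩ ⟨x, hx, hex⟩
    have : f ⟨e, he⟩ ∈ f.range := ⟨_, rfl⟩
    rw [h] at this
    exact Subgroup.mem_bot.1 this
  have hu : ∀ x y : Q, orderOf x = 2 → orderOf y = 2 → x = y := by
    intro x y hx hy
    apply Subtype.ext
    exact h1 x x.2 y y.2 (by rw [Subgroup.orderOf_coe]; exact hx) (by rw [Subgroup.orderOf_coe]; exact hy)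
  obtain ⟨q⟩ := equiv_q8 (hW.to_subgroup Q) hu hp f.range hR hRne
  obtain ⟨hp3, hc3⟩ := card3 q hp f.range hR hRne
  refine ⟨hp3, ?_⟩
  obtain ⟨z, hz1, hzz, hzc, hzc', hcom, hsq, hnab, hcard, huq⟩ := exists_inv q
  have hcube : ∀ e : E, (f e) ^ 3 = 1 := by
    intro e
    have h7 : (⟨f e, ⟨e, rfl⟩⟩ : f.range) ^ 3 = 1 := by
      rw [← hc3]; exact pow_card_eq_one'
    exact congrArg Subtype.val h7
  have hzo : orderOf z = 2 := orderOf_eq_prime (by rw [pow_two, hzz]) hz1
  refine ⟨z, hcard, z.2, fun h => hz1 (Subtype.ext h), congrArg Subtype.val hzz, ?_, ?_, ?_, ?_, ?_, ?_, ?_, ?_, ?_, ?_⟩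
  · intro x hx ho
    have := huq ⟨x, hx⟩ (by rw [← Subgroup.orderOf_coe]; exact ho)
    exact congrArg Subtype.val this
  · intro x hx y hy
    rcases hcom ⟨x, hx⟩ ⟨y, hy⟩ with h | h
    · left; exact congrArg Subtype.val h
    · right; exact congrArg Subtype.val h
  · intro x hx
    rcases hsq ⟨x, hx⟩ with h | h
    · left; exact congrArg Subtype.val h
    · right; exact congrArg Subtype.val h
  · obtain ⟨x, y, hxy⟩ := hnab
    refine ⟨x, x.2, y, y.2, fun h => hxy (Subtype.ext h)⟩
  · intro x hx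
    exact congrArg Subtype.val (hzc ⟨x, hx⟩)
  · intro e he
    have := huq (f ⟨e, he⟩ z) (by rw [MulEquiv.orderOf_eq]; exact hzo)
    exact congrArg Subtype.val this
  · intro e he hex x hx hexx
    have h8 := (order3 q (hcube ⟨e, he⟩) (hfne ⟨e, he⟩ hex) hz1 hzz huq).1 ⟨x, hx⟩ (Subtype.ext hexx)
    rcases h8 with h | h
    · left; exact congrArg Subtype.val h
    · right; exact congrArg Subtype.val h
  · intro e he hex X hXQ hXe
    have h8 := (order3 q (hcube ⟨e, he⟩) (hfne ⟨e, he⟩ hex) hz1 hzz huq).2 (X.subgroupOf Q) (by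
      intro x hx
      rw [Subgroup.mem_subgroupOf] at hx ⊢
      exact hXe _ hx)
    rcases h8 with h | h
    · left
      intro x hx
      rcases h ⟨x, hXQ hx⟩ (by rw [Subgroup.mem_subgroupOf]; exact hx) with h | h
      · left; exact congrArg Subtype.val h
      · right; exact congrArg Subtype.val h
    · right
      apply le_antisymm hXQ
      rwa [Subgroup.subgroupOf_eq_top] at h
  · intro e he x hx
    have h9 := congrArg (fun g : MulAut Q => g (⟨x, hx⟩ : Q)) (hcube ⟨e, he⟩)
    exact congrArg Subtype.val h9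
  · have h10 : Nat.card f.ker = Nat.card (ker E Q) := by
      apply Nat.card_congr
      refine ⟨fun e => ⟨e.1.1, e.1.2, fun x hx => ?_⟩, fun e => ⟨⟨e.1, e.2.1⟩, ?_⟩, ?_, ?_⟩
      · have h6 := congrArg (fun g : MulAut Q => g (⟨x, hx⟩ : Q)) (MonoidHom.mem_ker.1 e.2)
        exact congrArg Subtype.val h6
      · rw [MonoidHom.mem_ker]
        ext x
        exact e.2.2 x x.2
      · intro e; rfl
      · intro e; rfl
    have h11 := Subgroup.card_mul_index f.ker
    rw [Subgroup.index_ker, hc3, h10] at h11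
    rw [← h11, mul_comm]

end action

end Cfsg.Agent.H20.QAct
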